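import Cfsg.Agent.PrimeDegreeHalf.Lines
import Cfsg.Agent.S0676

/-!
Prime degree, `|N(P)| = p (p - 1) / 2`: triple transitivity or four orbits of a two-point
stabilizer; primitivity of a point stabilizer.
-/

set_option autoImplicit false
open Cfsg
open scoped Pointwise

namespace Cfsg.Agent.PrimeDegreeHalf

variable {G Ω : Type*} [Group G] [Finite G] [MulAction G Ω] [FaithfulSMul G Ω] [Finite Ω]
  {p : ℕ}

theorem toPermHom_injective : Function.Injective (MulAction.toPermHom G Ω) := fun g h e =>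
  eq_of_smul_eq_smul fun x : Ω => DFunLike.congr_fun e x

theorem range_pretransitive [MulAction.IsPretransitive G Ω] :
    MulAction.IsPretransitive (MulAction.toPermHom G Ω).range Ω :=
  ⟨fun x y => by
    obtain ⟨g, hg⟩ := MulAction.exists_smul_eq G x y
    exact ⟨⟨_, g, rfl⟩, hg⟩⟩

theorem three_of_range
    (h : MulAction.IsMultiplyPretransitive (MulAction.toPermHom G Ω).range Ω 3) :
    MulAction.IsMultiplyPretransitive G Ω 3 := by
  rw [MulAction.isMultiplyPretransitive_iff] at h ⊢
  intro x y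
  obtain ⟨⟨_, g, rfl⟩, hg⟩ := h x y
  refine ⟨g, ?_⟩
  refine Function.Embedding.ext fun i => ?_
  exact DFunLike.congr_fun hg i

theorem data [Fintype Ω] [DecidableEq Ω] (hp : p.Prime) (hΩ : Nat.card Ω = p)
    (htrans : MulAction.IsPretransitive G Ω) (hins : ¬ Group.IsSolvable G) (P : Sylow p G)
    (hN : 2 * Nat.card ↥(Subgroup.normalizer ((P : Subgroup G) : Set G)) = p * (p - 1)) :
    haveI := Fact.mk hp
    MulAction.IsMultiplyPretransitive G Ω 3 ∨
      (p % 4 = 3 ∧ Nonempty (Ctx p (MulAction.toPermHom G Ω).range)) := by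
  haveI := Fact.mk hp
  haveI := range_pretransitive (G := G) (Ω := Ω)
  have hcard : Fintype.card Ω = p := by rw [← hΩ, Nat.card_eq_fintype_card]
  set R := (MulAction.toPermHom G Ω).range
  let eq : G ≃* R := MonoidHom.ofInjective toPermHom_injective
  have hR : ¬ Group.IsSolvable R := fun h => hins (by
    haveI := h
    exact Group.isSolvable_of_surjective (f := eq.symm.toMonoidHom) eq.symm.surjective)
  let P' : Sylow p R := P.mapSurjective (f := eq.toMonoidHom) eq.surjective
  have hN' : 2 * Nat.card (Subgroup.normalizer ((P' : Subgroup R) : Set R)) = p * (p - 1) := by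
    have h : (Subgroup.normalizer ((P : Subgroup G) : Set G)).map eq.toMonoidHom =
        Subgroup.normalizer ((P' : Subgroup R) : Set R) := by
      exact Subgroup.map_equiv_normalizer_eq _ eq
    have hc := Subgroup.card_map_of_injective
      (K := Subgroup.normalizer ((P : Subgroup G) : Set G)) (f := eq.toMonoidHom) eq.injective
    rw [← h, hc]
    exact hN
  rcases Nat.lt_or_ge p 3 with h | h
  · exfalso
    have hp2 : p = 2 := le_antisymm (by omega) hp.two_le
    haveI : Fact (Nat.Prime 2) := ⟨Nat.prime_two⟩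
    have hc : Nat.card (Equiv.Perm Ω) = 2 := by
      rw [Nat.card_perm, hΩ, hp2]; rfl
    haveI : IsCyclic (Equiv.Perm Ω) := isCyclic_of_prime_card hc
    exact hR (Group.isSolvable_of_comm fun a b =>
      Subtype.ext (IsMulCommutative.is_comm.comm a.1 b.1))
  have hodd : p % 2 = 1 := Nat.odd_iff.1 (hp.odd_of_ne_two (by omega))
  by_cases h4 : p % 4 = 3
  · exact .inr ⟨h4, exists_ctx hcard R hR P' hN'⟩
  · left
    refine three_of_range (Cfsg.Agent.S0676.result hcard R hR P' ?_)
    obtain ⟨k, hk⟩ : 4 ∣ p - 1 := by omega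
    refine ⟨p * k, ?_⟩
    rw [hk] at hN'
    apply Nat.eq_of_mul_eq_mul_left two_pos
    rw [hN']; ring

/-- the orbits of a two-point stabilizer are those of the corresponding permutation group -/
theorem card_quotient_eq [DecidableEq Ω] [Fintype Ω] (α β : Ω) :
    Nat.card (MulAction.orbitRel.Quotient
        ↥(MulAction.stabilizer G α ⊓ MulAction.stabilizer G β) Ω) =
      Nat.card (Quotient (fix2Setoid (MulAction.toPermHom G Ω).range α β)) := by
  refine Nat.card_congr (Quotient.congr (Equiv.refl Ω) fun x y => ?_)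
  show (MulAction.orbitRel _ _).r x y ↔ Fix2 _ α β x y
  rw [MulAction.orbitRel_apply]
  constructor
  · rintro ⟨⟨g, hg⟩, hgy⟩
    obtain ⟨h1, h2⟩ := Subgroup.mem_inf.1 hg
    refine (fix2_equivalence α β).symm ⟨_, ⟨g, rfl⟩, h1, h2, hgy⟩
  · intro h
    obtain ⟨_, ⟨g, rfl⟩, h1, h2, hgy⟩ := (fix2_equivalence α β).symm h
    exact ⟨⟨g, Subgroup.mem_inf.2 ⟨h1, h2⟩⟩, hgy⟩

theorem four_orbits (p : ℕ) (hp : p.Prime) (hΩ : Nat.card Ω = p)
    (htrans : MulAction.IsPretransitive G Ω) (hins : ¬ Group.IsSolvable G) (P : Sylow p G)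
    (hN : 2 * Nat.card ↥(Subgroup.normalizer ((P : Subgroup G) : Set G)) = p * (p - 1)) :
    MulAction.IsMultiplyPretransitive G Ω 3 ∨
    ∀ α β : Ω, α ≠ β →
      Nat.card (MulAction.orbitRel.Quotient ↥(MulAction.stabilizer G α ⊓ MulAction.stabilizer G β) Ω) = 4 := by
  classical
  haveI := Fintype.ofFinite Ω
  haveI := Fact.mk hp
  rcases data hp hΩ htrans hins P hN with h | ⟨h3, ⟨C⟩⟩
  · exact .inl h
  refine or_iff_not_imp_left.2 fun hnot α β hne => ?_
  rw [card_quotient_eq]
  refine le_antisymm (C.card_orbits_le h3 (fun x hx => isSquare_neg h3 hx) α β hne) ?_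
  by_contra hlt
  apply hnot
  apply three_of_range
  set R := (MulAction.toPermHom G Ω).range
  haveI := Fintype.ofFinite (Quotient (fix2Setoid R α β))
  rw [Nat.card_eq_fintype_card] at hlt
  have hone : ∀ x y : Ω, x ≠ α → x ≠ β → y ≠ α → y ≠ β → Fix2 R α β x y := by
    intro x y hxa hxb hya hyb
    by_contra hn
    let f : Fin 4 → Quotient (fix2Setoid R α β) := fun i => Quotient.mk _ (![α, β, x, y] i)
    have ha1 : ∀ v, Fix2 R α β α v → v = α := fun v ⟨g, _, h1, _, h2⟩ => h2.symm.trans h1
    have hb1 : ∀ v, Fix2 R α β β v → v = β := fun v ⟨g, _, _, h1, h2⟩ => h2.symm.trans h1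
    have hsym := fun {u v} (h : Fix2 R α β u v) => (fix2_equivalence α β).symm h
    have hf : Function.Injective f := by
      intro i j h
      have h' : Fix2 R α β (![α, β, x, y] i) (![α, β, x, y] j) := Quotient.exact h
      fin_cases i <;> fin_cases j <;> first
        | rfl
        | exact absurd (ha1 _ h') (by first | exact hne.symm | exact hxa | exact hya)
        | exact absurd (ha1 _ (hsym h')) (by first | exact hne.symm | exact hxa | exact hya)
        | exact absurd (hb1 _ h') (by first | exact hxb | exact hyb)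
        | exact absurd (hb1 _ (hsym h')) (by first | exact hxb | exact hyb)
        | exact absurd h' hn
        | exact absurd (hsym h') hn
    have := Fintype.card_le_of_injective f hf
    simp at this
    omega
  rw [MulAction.isMultiplyPretransitive_iff]
  intro x y
  obtain ⟨g, hg, hg0, hg1⟩ := C.two (x 0) (x 1) α β (by simp) hne
  obtain ⟨h, hh, hh0, hh1⟩ := C.two (y 0) (y 1) α β (by simp) hne
  obtain ⟨u, hu, hua, hub, huxy⟩ := hone (g (x 2)) (h (y 2))
    (fun e => by rw [← hg0] at e; exact absurd (x.injective (g.injective e)) (by decide))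
    (fun e => by rw [← hg1] at e; exact absurd (x.injective (g.injective e)) (by decide))
    (fun e => by rw [← hh0] at e; exact absurd (y.injective (h.injective e)) (by decide))
    (fun e => by rw [← hh1] at e; exact absurd (y.injective (h.injective e)) (by decide))
  refine ⟨⟨h⁻¹ * u * g, R.mul_mem (R.mul_mem (R.inv_mem hh) hu) hg⟩, ?_⟩
  refine Function.Embedding.ext fun i => ?_
  show h⁻¹ (u (g (x i))) = y i
  fin_cases i
  · show h⁻¹ (u (g (x 0))) = y 0
    rw [hg0, hua, inv_apply_of hh0]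
  · show h⁻¹ (u (g (x 1))) = y 1
    rw [hg1, hub, inv_apply_of hh1]
  · show h⁻¹ (u (g (x 2))) = y 2
    rw [huxy, inv_apply_of rfl]

theorem stabilizer_primitive (p : ℕ) (hp : p.Prime) (hΩ : Nat.card Ω = p)
    (htrans : MulAction.IsPretransitive G Ω) (hins : ¬ Group.IsSolvable G) (P : Sylow p G)
    (hN : 2 * Nat.card ↥(Subgroup.normalizer ((P : Subgroup G) : Set G)) = p * (p - 1))
    (hp7 : 7 < p) (α : Ω) :
    MulAction.IsPreprimitive ↥(MulAction.stabilizer G α) ↥(SubMulAction.ofStabilizer G α) := by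
  classical
  haveI := Fintype.ofFinite Ω
  haveI := Fact.mk hp
  haveI := htrans
  rcases data hp hΩ htrans hins P hN with h | ⟨h3, ⟨C⟩⟩
  · haveI := h
    haveI : MulAction.IsMultiplyPretransitive ↥(MulAction.stabilizer G α)
        ↥(SubMulAction.ofStabilizer G α) 2 :=
      SubMulAction.ofStabilizer.isMultiplyPretransitive.1 h
    exact MulAction.isPreprimitive_of_is_two_pretransitive inferInstance
  haveI : MulAction.IsPretransitive ↥(MulAction.stabilizer G α)
      ↥(SubMulAction.ofStabilizer G α) := ⟨fun x y => by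
    obtain ⟨_, ⟨g, rfl⟩, hga, hgx⟩ := C.two α x.1 α y.1 (fun e => x.2 e.symm) (fun e => y.2 e.symm)
    exact ⟨⟨g, hga⟩, Subtype.ext hgx⟩⟩
  refine { isTrivialBlock_of_isBlock := fun {B} hB => ?_ }
  by_contra hnt
  rw [MulAction.IsTrivialBlock, not_or] at hnt
  obtain ⟨h1, h2⟩ := hnt
  obtain ⟨b, hb, z, hz, hbz⟩ := Set.not_subsingleton_iff.1 h1
  obtain ⟨r, hr⟩ := (Set.ne_univ_iff_exists_notMem B).1 h2
  set B' : Finset Ω := Finset.univ.filter fun x => ∃ y ∈ B, (y : Ω) = x with hB'
  have hmem : ∀ y : ↥(SubMulAction.ofStabilizer G α), (y : Ω) ∈ B' ↔ y ∈ B := by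
    intro y
    simp only [hB', Finset.mem_filter, Finset.mem_univ, true_and]
    exact ⟨fun ⟨w, hw, e⟩ => (Subtype.ext e : w = y) ▸ hw, fun h => ⟨y, h, rfl⟩⟩
  have D : BlockData (MulAction.toPermHom G Ω).range α b.1 B' := by
    refine ⟨?_, (hmem b).2 hb, ⟨z.1, (hmem z).2 hz, fun e => hbz (Subtype.ext e.symm)⟩,
      ⟨r.1, fun h => hr ((hmem r).1 h), r.2⟩, ?_⟩
    · simp only [hB', Finset.mem_filter, Finset.mem_univ, true_and]
      rintro ⟨y, -, e⟩
      exact y.2 e
    · rintro _ ⟨g, rfl⟩ hga x hx hgx y hy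
      have hst : g ∈ MulAction.stabilizer G α := hga
      simp only [hB', Finset.mem_filter, Finset.mem_univ, true_and] at hx hy
      obtain ⟨x', hx', rfl⟩ := hx
      obtain ⟨y', hy', rfl⟩ := hy
      set u : ↥(MulAction.stabilizer G α) := ⟨g, hst⟩
      have h1 : u • x' ∈ B := (hmem (u • x')).1 hgx
      have h2 : u • B = B := (MulAction.isBlock_iff_smul_eq_of_nonempty.1 hB) ⟨u • x', Set.smul_mem_smul_set hx', h1⟩
      have h3' : u • y' ∈ u • B := Set.smul_mem_smul_set hy'
      rw [h2] at h3'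
      exact (hmem (u • y')).2 h3'
  exact D.contradiction C h3 hp7

end Cfsg.Agent.PrimeDegreeHalf
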