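import Cfsg.Agent.PrimeDegreeHalf.Frame
import Cfsg.Agent.S0713

/-!
Elements of small support from a frame: degrees `2 r + 3` and `3 r + 4`.
-/

set_option autoImplicit false

namespace Cfsg.Agent.PrimeDegreeHalf

variable {α : Type*} [Fintype α] [DecidableEq α] {R : Subgroup (Equiv.Perm α)}

theorem three_coprime_case {R : Subgroup (Equiv.Perm α)} (hprim : MulAction.IsPreprimitive R α)
    {r : ℕ} (hr : r.Prime) (hr3 : 3 < r) (h3 : ¬ 3 ∣ r - 1) (hα : Fintype.card α = 3 + 2 * r)
    (h : Trans R 4) : alternatingGroup α ≤ R := by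
  classical
  haveI := Fact.mk hr
  haveI := Fact.mk Nat.prime_three
  obtain ⟨x⟩ : Nonempty (Fin 3 ↪ α) :=
    Function.Embedding.nonempty_of_card_le (by rw [Fintype.card_fin]; omega)
  obtain ⟨F⟩ := exists_frame hr (by omega : 2 < r) hα h two_pos x.injective
  set σ : Equiv.Perm (Fin 3) := finRotate 3
  obtain ⟨n, hnR, hnN, hnx⟩ := F.lift σ
  obtain ⟨e, m, hm3, hord⟩ := Nat.exists_eq_pow_mul_and_not_dvd
    (orderOf_pos n).ne' 3 (by norm_num)
  set y := n ^ m with hy
  have hyN : y ∈ F.N := pow_mem (Subgroup.mem_inf.2 ⟨hnR, hnN⟩) m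
  have hy1 : y ^ (3 ^ e) = 1 := by rw [hy, ← pow_mul, mul_comm, ← hord, pow_orderOf_eq_one]
  have hyx : ∀ i, y (x i) = x ((σ ^ m) i) := by
    intro i
    rw [hy]
    clear hy hord hyN hy1 hm3
    induction m with
    | zero => rfl
    | succ m ih =>
      rw [pow_succ', pow_succ', Equiv.Perm.mul_apply, Equiv.Perm.mul_apply, ih, hnx]
  have hσ : σ ^ (m % 3) = σ ^ m := (pow_eq_pow_mod m (by decide)).symm
  have hyne : ∀ i, y (x i) ≠ x i := by
    intro i h
    have h' := x.injective ((hyx i).symm.trans h)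
    rw [← hσ] at h'
    have : m % 3 = 1 ∨ m % 3 = 2 := by omega
    rcases this with h2 | h2 <;> rw [h2] at h' <;> clear h <;> revert h' <;> revert i <;> decide
  have hyout : ∀ o, o ∉ Set.range x → y o ∉ Set.range x := by
    rintro o ho ⟨i, hi⟩
    refine ho ⟨(σ ^ m)⁻¹ i, y.injective ?_⟩
    rw [hyx, show (σ ^ m) ((σ ^ m)⁻¹ i) = i from (σ ^ m).apply_symm_apply i]
    exact hi
  have hrel : ∀ o, o ∉ Set.range x → Rel F.S (y o) o := by
    intro o ho
    obtain ⟨i, j, hij, hr'⟩ := F.few ![o, y o, y (y o)] (by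
      intro i; fin_cases i
      · exact ho
      · exact hyout o ho
      · exact hyout _ (hyout o ho))
    have hs := fun {u v} (h : Rel F.S u v) => (rel_equivalence F.S).symm h
    have key : Rel F.S o (y (y o)) → Rel F.S (y o) o := by
      intro h2
      have hj : ∀ j, Rel F.S o ((y ^ (2 * j)) o) := by
        intro j
        induction j with
        | zero => exact (rel_equivalence F.S).refl o
        | succ j ih =>
          refine (rel_equivalence F.S).trans h2 ?_
          rw [show 2 * (j + 1) = 1 + 1 + 2 * j by ring, pow_add, Equiv.Perm.mul_apply, pow_succ',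
            Equiv.Perm.mul_apply, pow_one]
          exact F.rel_conj hyN (F.rel_conj hyN ih)
      obtain ⟨j, hj'⟩ : Odd (3 ^ e) := Odd.pow (by decide)
      have := F.rel_conj hyN (hj j)
      rwa [← Equiv.Perm.mul_apply, ← pow_succ', ← hj', hy1] at this
    have key2 : Rel F.S (y o) (y (y o)) → Rel F.S (y o) o := fun h2 => by
      have h4 := F.rel_conj (F.N.inv_mem hyN) h2
      rw [show y⁻¹ (y o) = o from y.symm_apply_apply o,
        show y⁻¹ (y (y o)) = y o from y.symm_apply_apply (y o)] at h4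
      exact hs h4
    fin_cases i <;> fin_cases j <;> first
      | exact absurd rfl hij
      | exact hs hr'
      | exact hr'
      | exact key hr'
      | exact key (hs hr')
      | exact key2 hr'
      | exact key2 (hs hr')
  have hyfix : ∀ o, o ∉ Set.range x → y o = o := by
    intro o ho
    obtain ⟨s, hs, hso⟩ := F.move o ho
    obtain ⟨j, hj⟩ := F.exists_mult hr hyN ho (hrel o ho)
    have hiter : ∀ i, (y ^ i * s * (y ^ i)⁻¹) o = (s ^ (j ^ i)) o := by
      intro i
      induction i with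
      | zero => simp
      | succ i ih =>
        have hmem := F.conj_mem (pow_mem hyN i) hs
        rw [show y ^ (i + 1) * s * (y ^ (i + 1))⁻¹ = y * (y ^ i * s * (y ^ i)⁻¹) * y⁻¹ by
          rw [pow_succ', mul_inv_rev]; group, hj _ hmem,
          F.agree_pow hmem (pow_mem hs _) ih j, ← pow_mul, pow_succ]
    have h1 := hiter (3 ^ e)
    rw [hy1, one_mul, inv_one, mul_one] at h1
    have h1' : (s ^ 1) o = (s ^ (j ^ 3 ^ e)) o := by rw [pow_one]; exact h1
    rw [F.pow_cast hr hs hso, Nat.cast_one, Nat.cast_pow] at h1'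
    have hj1 : (j : ZMod r) = 1 := by
      have hne : (j : ZMod r) ≠ 0 := by
        intro h0
        rw [h0, zero_pow (by positivity)] at h1'
        exact one_ne_zero h1'
      have hd1 : orderOf (j : ZMod r) ∣ 3 ^ e := orderOf_dvd_of_pow_eq_one h1'.symm
      have hd2 : orderOf (j : ZMod r) ∣ r - 1 :=
        orderOf_dvd_of_pow_eq_one (ZMod.pow_card_sub_one_eq_one hne)
      rw [← orderOf_eq_one_iff]
      exact Nat.eq_one_of_dvd_coprimes
        ((Nat.prime_three.coprime_iff_not_dvd.2 h3).pow_left e) hd1 hd2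
    have hcomm : ∀ w, Rel F.S o w → (y * s * y⁻¹) w = s w := fun w hw =>
      F.agree hw (F.conj_mem hyN hs) hs (by
        rw [hj s hs]
        exact ((F.pow_cast hr hs hso (a := j) (b := 1)).2 (by rw [hj1, Nat.cast_one])).trans
          (by rw [pow_one]))
    obtain ⟨u, hu, hue⟩ := (rel_equivalence F.S).symm (hrel o ho)
    obtain ⟨c, hc⟩ := F.cyc o s hs hso u hu
    have hcomm' : ∀ w, Rel F.S o w → (y * s ^ c * y⁻¹) w = (s ^ c) w := fun w hw => by
      rw [← conj_pow]
      exact F.agree_pow (F.conj_mem hyN hs) hs (hcomm w hw) c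
    have h2 := F.fixes_of_translation (pow_mem hs c) hcomm' (hue.symm.trans hc) (3 ^ e)
    rw [hy1, Equiv.Perm.one_apply, ← pow_mul] at h2
    have h2' : (s ^ 0) o = (s ^ (c * 3 ^ e)) o := by rw [pow_zero]; exact h2
    rw [F.pow_cast hr hs hso, Nat.cast_zero, eq_comm, ZMod.natCast_eq_zero_iff] at h2'
    have hrc : r ∣ c := (hr.dvd_mul.1 h2').resolve_right fun h => by
      have := Nat.le_of_dvd (by norm_num) (hr.dvd_of_dvd_pow h)
      omega
    obtain ⟨d, rfl⟩ := hrc
    rw [← hue, hc, pow_mul, F.pow s hs, one_pow, Equiv.Perm.one_apply]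
  have hsupp : y.support = Finset.univ.image x := by
    ext o
    rw [Equiv.Perm.mem_support, Finset.mem_image]
    exact ⟨fun h => by
      by_contra hn
      exact h (hyfix o fun ⟨i, hi⟩ => hn ⟨i, Finset.mem_univ _, hi⟩),
      fun ⟨i, _, hi⟩ => hi ▸ hyne i⟩
  have h3c : y.IsThreeCycle := card_support_eq_three_iff.1 (by
    rw [hsupp, Finset.card_image_of_injective _ x.injective, Finset.card_univ, Fintype.card_fin])
  exact Equiv.Perm.alternatingGroup_le_of_isPreprimitive_of_isThreeCycle_mem hprim h3c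
    (Subgroup.mem_inf.1 hyN).1

theorem perm_three_double_comm (a b c d : Equiv.Perm (Fin 3)) :
    (a * b * a⁻¹ * b⁻¹) * (c * d * c⁻¹ * d⁻¹) * (a * b * a⁻¹ * b⁻¹)⁻¹ * (c * d * c⁻¹ * d⁻¹)⁻¹ = 1 := by
  have h1 : ∀ a b : Equiv.Perm (Fin 3), a * b * a⁻¹ * b⁻¹ = 1 ∨
      a * b * a⁻¹ * b⁻¹ = finRotate 3 ∨ a * b * a⁻¹ * b⁻¹ = finRotate 3 * finRotate 3 := by decide
  rcases h1 a b with h | h | h <;> rcases h1 c d with h' | h' | h' <;> rw [h, h'] <;> decide

theorem four_case {R : Subgroup (Equiv.Perm α)} (hprim : MulAction.IsPreprimitive R α)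
    {r : ℕ} (hr : r.Prime) (hr3 : 3 < r) (hα : Fintype.card α = 4 + 3 * r)
    (h : Trans R 5) : alternatingGroup α ≤ R := by
  classical
  haveI := Fact.mk hr
  obtain ⟨x⟩ : Nonempty (Fin 4 ↪ α) :=
    Function.Embedding.nonempty_of_card_le (by rw [Fintype.card_fin]; omega)
  obtain ⟨F⟩ := exists_frame hr hr3 hα h three_pos x.injective
  have hout : ∃ o, o ∉ Set.range x := by
    by_contra hn
    simp only [not_exists, not_not] at hn
    have := Fintype.card_le_of_surjective x fun o => hn o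
    rw [Fintype.card_fin] at this
    omega
  have hs := fun {u v} (h : Rel F.S u v) => (rel_equivalence F.S).symm h
  have ht := fun {u v w} (h : Rel F.S u v) (h' : Rel F.S v w) => (rel_equivalence F.S).trans h h'
  have horbit : ∀ o, o ∉ Set.range x → (Finset.univ.filter fun o' => Rel F.S o o').card ≤ r := by
    intro o ho
    obtain ⟨s, hsS, hso⟩ := F.move o ho
    refine le_trans (Finset.card_le_card ?_)
      ((Finset.card_image_le (f := fun m => (s ^ m) o) (s := Finset.range r)).trans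
        (Finset.card_range r).le)
    intro o' ho'
    obtain ⟨u, hu, rfl⟩ := (Finset.mem_filter.1 ho').2
    obtain ⟨m, hm⟩ := F.cyc o s hsS hso u hu
    refine Finset.mem_image.2 ⟨m % r, Finset.mem_range.2 (Nat.mod_lt _ hr.pos), ?_⟩
    rw [← pow_eq_pow_mod m (F.pow s hsS)]
    exact hm.symm
  -- representatives of the three orbits
  obtain ⟨o0, ho0⟩ := hout
  have hnext : ∀ T : Finset α, T.card ≤ 2 → (∀ o ∈ T, o ∉ Set.range x) →
      ∃ o, o ∉ Set.range x ∧ ∀ o' ∈ T, ¬ Rel F.S o' o := by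
    intro T hT hTx
    by_contra hn
    simp only [not_exists, not_and, not_forall, not_not] at hn
    have hsub : (Finset.univ : Finset α) ⊆
        Finset.univ.image x ∪ T.biUnion fun o' => Finset.univ.filter fun o => Rel F.S o' o := by
      intro o _
      by_cases ho : o ∈ Set.range x
      · obtain ⟨i, rfl⟩ := ho
        exact Finset.mem_union_left _ (Finset.mem_image_of_mem _ (Finset.mem_univ _))
      · obtain ⟨o', ho', hrel⟩ := hn o ho
        exact Finset.mem_union_right _ (Finset.mem_biUnion.2 ⟨o', ho', by simp [hrel]⟩)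
    have h1 := (Finset.card_le_card hsub).trans (Finset.card_union_le _ _)
    have h2 := (Finset.card_biUnion_le_card_mul T _ r fun o ho => horbit o (hTx o ho))
    rw [Finset.card_univ, hα, Finset.card_image_of_injective _ x.injective, Finset.card_univ,
      Fintype.card_fin] at h1
    have h3 : T.card * r ≤ 2 * r := Nat.mul_le_mul_right r hT
    have := hr.pos
    omega
  obtain ⟨o1, ho1, ho01⟩ := hnext {o0} (by simp) (by simpa using ho0)
  obtain ⟨o2, ho2, ho2'⟩ := hnext {o0, o1} Finset.card_le_two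
    (by intro o ho; simp at ho; rcases ho with rfl | rfl; exacts [ho0, ho1])
  replace ho01 := ho01 o0 (by simp)
  have ho02 := ho2' o0 (by simp)
  have ho12 := ho2' o1 (by simp)
  set o : Fin 3 → α := ![o0, o1, o2] with ho
  have hox : ∀ i, o i ∉ Set.range x := by intro i; fin_cases i; exacts [ho0, ho1, ho2]
  have hdist : ∀ i j, Rel F.S (o i) (o j) → i = j := by
    intro i j hij
    fin_cases i <;> fin_cases j <;> first
      | rfl
      | exact absurd hij ho01
      | exact absurd hij ho02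
      | exact absurd hij ho12
      | exact absurd (hs hij) ho01
      | exact absurd (hs hij) ho02
      | exact absurd (hs hij) ho12
  have hcov : ∀ w, w ∉ Set.range x → ∃ i, Rel F.S (o i) w := by
    intro w hw
    obtain ⟨i, j, hij, hrel⟩ := F.few (Fin.snoc o w) (by
      intro i
      induction i using Fin.lastCases with
      | last => rw [Fin.snoc_last]; exact hw
      | cast i => rw [Fin.snoc_castSucc]; exact hox i)
    induction i using Fin.lastCases with
    | last =>
      induction j using Fin.lastCases with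
      | last => exact absurd rfl hij
      | cast j => rw [Fin.snoc_last, Fin.snoc_castSucc] at hrel; exact ⟨j, hs hrel⟩
    | cast i =>
      induction j using Fin.lastCases with
      | last => rw [Fin.snoc_last, Fin.snoc_castSucc] at hrel; exact ⟨i, hrel⟩
      | cast j =>
        rw [Fin.snoc_castSucc, Fin.snoc_castSucc] at hrel
        exact absurd (congrArg Fin.castSucc (hdist i j hrel)) hij
  -- a non-trivial element supported on one orbit gives a cycle of length `r`
  by_cases hsingle : ∃ u ∈ F.S, u ≠ 1 ∧ ∃ i, ∀ j, j ≠ i → u (o j) = o j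
  · obtain ⟨u, hu, hu1, i, hi⟩ := hsingle
    have hsub : u.support ⊆ Finset.univ.filter fun w => Rel F.S (o i) w := by
      intro w hw
      rw [Equiv.Perm.mem_support] at hw
      have hwx : w ∉ Set.range x := fun ⟨l, hl⟩ => hw (hl ▸ F.fix u hu l)
      obtain ⟨j, hj⟩ := hcov w hwx
      by_cases hji : j = i
      · simp [← hji, hj]
      · exact absurd (F.agree hj hu F.S.one_mem (hi j hji)) hw
    have hord : orderOf u = r := orderOf_eq_prime (F.pow u hu) hu1
    have hle : u.support.card ≤ r := (Finset.card_le_card hsub).trans (horbit _ (hox i))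
    have hcyc : u.IsCycle := Equiv.Perm.isCycle_of_prime_order (by rw [hord]; exact hr)
      (by rw [hord]; omega)
    exact Cfsg.Agent.S0713.result R hprim hr (by omega) (by omega) hcyc
      (by rw [← hord, hcyc.orderOf]) (F.le hu)
  simp only [not_exists, not_and, not_forall] at hsingle
  have hzero : ∀ u ∈ F.S, ∀ i : Fin 3, (∀ j, j ≠ i → u (o j) = o j) → u = 1 := fun u hu i hi => by
    by_contra hu1
    obtain ⟨j, hji, hj⟩ := hsingle u hu hu1 i
    exact hj (hi j hji)
  -- an element fixing every orbit acts on `S` as a power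
  have hscalar : ∀ n ∈ F.N, (∀ i, Rel F.S (n (o i)) (o i)) →
      ∃ j : ℕ, ∀ u ∈ F.S, n * u * n⁻¹ = u ^ j := by
    intro n hn hni
    choose j hj using fun i => F.exists_mult hr hn (hox i) (hni i)
    have hdiff : ∀ (i : Fin 3) (c : ℕ) (u : Equiv.Perm α), u ∈ F.S →
        (n * u * n⁻¹) (o i) = (u ^ c) (o i) → (n * u * n⁻¹ * (u ^ c)⁻¹) (o i) = o i := by
      intro i c u hu he
      have hw : Rel F.S (o i) ((u ^ c)⁻¹ (o i)) := ⟨_, F.S.inv_mem (pow_mem hu c), rfl⟩
      have := F.agree hw (F.conj_mem hn hu) (pow_mem hu c) he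
      rw [show (u ^ c) ((u ^ c)⁻¹ (o i)) = o i from (u ^ c).apply_symm_apply _] at this
      rw [Equiv.Perm.mul_apply]
      exact this
    by_cases h23 : (j 1 : ZMod r) = j 2
    · refine ⟨j 1, fun u hu => mul_inv_eq_one.1 (hzero _
        (F.S.mul_mem (F.conj_mem hn hu) (F.S.inv_mem (pow_mem hu _))) 0 fun i hi => ?_)⟩
      refine hdiff i (j 1) u hu ((hj i u hu).trans ?_)
      fin_cases i
      · exact absurd rfl hi
      · rfl
      · rw [pow_eq_pow_mod _ (F.pow u hu), pow_eq_pow_mod (j 1) (F.pow u hu),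
          (ZMod.natCast_eq_natCast_iff' _ _ _).1 h23]
        rfl
    · refine ⟨j 0, fun u hu => ?_⟩
      set v := n * u * n⁻¹ * (u ^ j 0)⁻¹ with hv
      have hvS : v ∈ F.S := F.S.mul_mem (F.conj_mem hn hu) (F.S.inv_mem (pow_mem hu _))
      have hv0 : v (o 0) = o 0 := hdiff 0 (j 0) u hu (hj 0 u hu)
      have hv0' : ∀ c : ℕ, (v ^ c) (o 0) = o 0 := fun c => by
        have h1 := F.agree_pow hvS F.S.one_mem (o := o 0) hv0 c
        rwa [one_pow, Equiv.Perm.one_apply] at h1
      have heq : n * v * n⁻¹ = v ^ j 1 := by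
        refine mul_inv_eq_one.1 (hzero _ (F.S.mul_mem (F.conj_mem hn hvS)
          (F.S.inv_mem (pow_mem hvS _))) 2 fun i hi => ?_)
        refine hdiff i (j 1) v hvS ((hj i v hvS).trans ?_)
        fin_cases i
        · exact (hv0' _).trans (hv0' _).symm
        · rfl
        · exact absurd rfl hi
      have hv2 : v (o 2) = o 2 := by
        by_contra hne
        have h1 := hj 2 v hvS
        rw [heq] at h1
        exact h23 ((F.pow_cast hr hvS hne).1 h1)
      have : v = 1 := hzero v hvS 1 fun i hi => by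
        fin_cases i
        · exact hv0
        · exact absurd rfl hi
        · exact hv2
      exact mul_inv_eq_one.1 this
  -- how elements of `N` permute the orbits and the points of the tuple
  let P : Equiv.Perm α → Equiv.Perm (Fin 3) → Prop := fun n π => ∀ i, Rel F.S (n (o i)) (o (π i))
  have hP : ∀ n ∈ F.N, (∀ i, n (o i) ∉ Set.range x) → ∃ π, P n π := by
    intro n hn hnx
    choose f hf using fun i => hcov (n (o i)) (hnx i)
    have hinj : Function.Injective f := fun i i' he => by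
      have h1 := F.rel_conj (F.N.inv_mem hn) (ht (hs (hf i)) (he ▸ hf i'))
      rw [show n⁻¹ (n (o i)) = o i from n.symm_apply_apply _,
        show n⁻¹ (n (o i')) = o i' from n.symm_apply_apply _] at h1
      exact hdist i i' h1
    exact ⟨Equiv.ofBijective f (Finite.injective_iff_bijective.1 hinj), fun i => hs (hf i)⟩
  have hPmul : ∀ {n n' π π'}, n ∈ F.N → P n π → P n' π' → P (n * n') (π * π') :=
    fun {n n' π π'} hn h1 h2 i => ht (F.rel_conj hn (h2 i)) (h1 (π' i))
  have hPinv : ∀ {n π}, n ∈ F.N → P n π → P n⁻¹ π⁻¹ := by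
    intro n π hn h1 i
    have h2 := F.rel_conj (F.N.inv_mem hn) (h1 (π⁻¹ i))
    rw [show n⁻¹ (n (o (π⁻¹ i))) = o (π⁻¹ i) from n.symm_apply_apply _,
      show π (π⁻¹ i) = i from π.apply_symm_apply i] at h2
    exact hs h2
  let Q : Equiv.Perm α → Equiv.Perm (Fin 4) → Prop := fun n σ => ∀ i, n (x i) = x (σ i)
  have hQmul : ∀ {n n' σ σ'}, Q n σ → Q n' σ' → Q (n * n') (σ * σ') :=
    fun {n n' σ σ'} h1 h2 i => (congrArg n (h2 i)).trans (h1 (σ' i))
  have hQinv : ∀ {n σ}, Q n σ → Q n⁻¹ σ⁻¹ := fun {n σ} h1 i => by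
    rw [Equiv.Perm.inv_eq_iff_eq, h1]
    exact congrArg x (σ.apply_symm_apply i).symm
  let L : Equiv.Perm α → Equiv.Perm (Fin 4) → Equiv.Perm (Fin 3) → Prop := fun n σ π =>
    n ∈ F.N ∧ Q n σ ∧ P n π
  have hLmul : ∀ {n n' σ σ' π π'}, L n σ π → L n' σ' π' → L (n * n') (σ * σ') (π * π') :=
    fun h1 h2 => ⟨F.N.mul_mem h1.1 h2.1, hQmul h1.2.1 h2.2.1, hPmul h1.1 h1.2.2 h2.2.2⟩
  have hLinv : ∀ {n σ π}, L n σ π → L n⁻¹ σ⁻¹ π⁻¹ :=
    fun h1 => ⟨F.N.inv_mem h1.1, hQinv h1.2.1, hPinv h1.1 h1.2.2⟩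
  have hLex : ∀ σ, ∃ n π, L n σ π := by
    intro σ
    obtain ⟨n, hnR, hnN, hnx⟩ := F.lift σ
    have hn : n ∈ F.N := Subgroup.mem_inf.2 ⟨hnR, hnN⟩
    obtain ⟨π, hπ⟩ := hP n hn fun i ⟨l, hl⟩ => hox i ⟨σ⁻¹ l, n.injective (by
      rw [hnx, show σ (σ⁻¹ l) = l from σ.apply_symm_apply l]; exact hl)⟩
    exact ⟨n, π, hn, hnx, hπ⟩
  obtain ⟨n1, π1, h1⟩ := hLex (Equiv.swap 0 1)
  obtain ⟨n2, π2, h2⟩ := hLex (Equiv.swap 0 2)
  obtain ⟨n3, π3, h3⟩ := hLex (Equiv.swap 0 3)
  have h12 := hLmul (hLmul (hLmul h1 h2) (hLinv h1)) (hLinv h2)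
  have h13 := hLmul (hLmul (hLmul h1 h3) (hLinv h1)) (hLinv h3)
  have hu' := hLmul (hLmul (hLmul h12 h13) (hLinv h12)) (hLinv h13)
  rw [perm_three_double_comm] at hu'
  have hτ : ∀ a b c : Equiv.Perm (Fin 4), a = Equiv.swap 0 1 → b = Equiv.swap 0 2 →
      c = Equiv.swap 0 3 → (a * b * a⁻¹ * b⁻¹) * (a * c * a⁻¹ * c⁻¹) * (a * b * a⁻¹ * b⁻¹)⁻¹ *
        (a * c * a⁻¹ * c⁻¹)⁻¹ = Equiv.swap 0 1 * Equiv.swap 2 3 := by
    rintro a b c rfl rfl rfl; decide
  rw [hτ _ _ _ rfl rfl rfl] at hu'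
  obtain ⟨u, hu⟩ : ∃ u, L u (Equiv.swap 0 1 * Equiv.swap 2 3) 1 := ⟨_, hu'⟩
  have huy := hLmul (hLmul h2 hu) (hLinv h2)
  rw [mul_one, mul_inv_cancel] at huy
  have hz := hLmul huy (hLinv hu)
  rw [inv_one, mul_one] at hz
  obtain ⟨j, hj⟩ := hscalar u hu.1 fun i => by simpa using hu.2.2 i
  set z := n2 * u * n2⁻¹ * u⁻¹ with hzdef
  have hcentral : ∀ s ∈ F.S, z * s * z⁻¹ = s := by
    intro s hsS
    have hs' := F.conj_mem (F.N.inv_mem hu.1) hsS
    rw [inv_inv] at hs'
    have hs'' := F.conj_mem (F.N.inv_mem h2.1) hs'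
    rw [inv_inv] at hs''
    calc z * s * z⁻¹ = n2 * (u * (n2⁻¹ * (u⁻¹ * s * u) * n2) * u⁻¹) * n2⁻¹ := by
          rw [hzdef]; group
      _ = n2 * (n2⁻¹ * (u⁻¹ * s * u) * n2) ^ j * n2⁻¹ := by rw [hj _ hs'']
      _ = (n2 * (n2⁻¹ * (u⁻¹ * s * u) * n2) * n2⁻¹) ^ j := (conj_pow).symm
      _ = (u⁻¹ * s * u⁻¹⁻¹) ^ j := by congr 1; group
      _ = u⁻¹ * s ^ j * u⁻¹⁻¹ := conj_pow
      _ = s := by rw [← hj s hsS]; group
  set w := z ^ r with hw
  have hwfix : ∀ o', o' ∉ Set.range x → w o' = o' := by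
    intro o' ho'
    obtain ⟨i, hi⟩ := hcov o' ho'
    have hzrel : Rel F.S o' (z o') :=
      ht (hs hi) (ht (hs (by simpa using hz.2.2 i)) (F.rel_conj hz.1 hi))
    obtain ⟨v, hv, hve⟩ := hzrel
    rw [hw, F.fixes_of_translation hv (fun a _ => by rw [hcentral v hv]) hve.symm r, F.pow v hv,
      Equiv.Perm.one_apply]
  have hwQ : ∀ i, w (x i) = x (((Equiv.swap 0 2 * Equiv.swap 1 3 : Equiv.Perm (Fin 4))) i) := by
    have hall : ∀ c : ℕ, Q (z ^ c) ((Equiv.swap 0 2 * Equiv.swap 1 3 : Equiv.Perm (Fin 4)) ^ c) := by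
      intro c
      induction c with
      | zero => exact fun i => rfl
      | succ c ih =>
        rw [pow_succ, pow_succ]
        refine hQmul ih ?_
        convert hz.2.1 using 1
        decide
    intro i
    have := hall r i
    obtain ⟨c, hc⟩ : Odd r := hr.odd_of_ne_two (by omega)
    rw [hc, pow_succ (a := (Equiv.swap 0 2 * Equiv.swap 1 3 : Equiv.Perm (Fin 4))), pow_mul,
      show (Equiv.swap 0 2 * Equiv.swap 1 3 : Equiv.Perm (Fin 4)) ^ 2 = 1 by decide, one_pow,
      one_mul, ← hc] at this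
    exact this
  have hweq : w = Equiv.swap (x 0) (x 2) * Equiv.swap (x 1) (x 3) := by
    refine Equiv.ext fun o' => ?_
    by_cases ho' : o' ∈ Set.range x
    · obtain ⟨i, rfl⟩ := ho'
      rw [hwQ, Equiv.Perm.mul_apply, Equiv.Perm.mul_apply, ← x.injective.map_swap,
        ← x.injective.map_swap]
    · rw [hwfix o' ho', Equiv.Perm.mul_apply, Equiv.swap_apply_of_ne_of_ne
        (fun e => ho' ⟨_, e.symm⟩) (fun e => ho' ⟨_, e.symm⟩), Equiv.swap_apply_of_ne_of_ne
        (fun e => ho' ⟨_, e.symm⟩) (fun e => ho' ⟨_, e.symm⟩)]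
  have hzR : w ∈ R := pow_mem (Subgroup.mem_inf.1 hz.1).1 r
  have hne : ∀ i, x i ≠ o0 := fun i e => ho0 ⟨i, e⟩
  have hxne : ∀ i i', i ≠ i' → x i ≠ x i' := fun i i' hii e => hii (x.injective e)
  obtain ⟨g, hg, hgi⟩ := h ![x 0, x 2, x 1, x 3, o0] ![x 0, x 2, x 1, o0, x 3]
    (by intro a b e; fin_cases a <;> fin_cases b <;> first
      | rfl
      | exact absurd e (hxne _ _ (by decide))
      | exact absurd e (hne _)
      | exact absurd e.symm (hne _))
    (by intro a b e; fin_cases a <;> fin_cases b <;> first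
      | rfl
      | exact absurd e (hxne _ _ (by decide))
      | exact absurd e (hne _)
      | exact absurd e.symm (hne _))
  have e0 : g (x 0) = x 0 := hgi 0
  have e2 : g (x 2) = x 2 := hgi 1
  have e1 : g (x 1) = x 1 := hgi 2
  have e3 : g (x 3) = o0 := hgi 3
  have hconj : g * w * g⁻¹ = Equiv.swap (x 0) (x 2) * Equiv.swap (x 1) o0 := by
    calc g * w * g⁻¹ = (g * Equiv.swap (x 0) (x 2) * g⁻¹) * (g * Equiv.swap (x 1) (x 3) * g⁻¹) := by
          rw [hweq]; group
      _ = _ := by rw [← Equiv.swap_apply_apply, ← Equiv.swap_apply_apply, e0, e2, e1, e3]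
  have hprod : w * (g * w * g⁻¹) = Equiv.swap (x 1) (x 3) * Equiv.swap (x 1) o0 := by
    have hd : Equiv.swap (x 1) (x 3) * Equiv.swap (x 0) (x 2) =
        Equiv.swap (x 0) (x 2) * Equiv.swap (x 1) (x 3) := by
      refine (Equiv.Perm.Disjoint.commute fun a => ?_).eq
      by_cases ha : a = x 0 ∨ a = x 2
      · left
        rcases ha with rfl | rfl <;>
          exact Equiv.swap_apply_of_ne_of_ne (hxne _ _ (by decide)) (hxne _ _ (by decide))
      · right
        rw [not_or] at ha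
        exact Equiv.swap_apply_of_ne_of_ne ha.1 ha.2
    rw [hconj, hweq, ← hd, mul_assoc, ← mul_assoc (Equiv.swap (x 0) (x 2)), Equiv.swap_mul_self,
      one_mul]
  refine Equiv.Perm.alternatingGroup_le_of_isPreprimitive_of_isThreeCycle_mem hprim
    (Equiv.Perm.isThreeCycle_swap_mul_swap_same (hxne 1 3 (by decide)) (hne 1) (hne 3)) ?_
  rw [← hprod]
  exact R.mul_mem hzR (R.mul_mem (R.mul_mem hg hzR) (R.inv_mem hg))

end Cfsg.Agent.PrimeDegreeHalf
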