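import Cfsg.Agent.PrimeDegreeHalf.Transfer
import Cfsg.Agent.PrimeDegreeHalf.SmallSupport

/-!
The alternating group criteria.
-/

set_option autoImplicit false

namespace Cfsg.Agent.PrimeDegreeHalf

theorem alternating_criteria {G Ω : Type*} [Group G] [Finite G] [MulAction G Ω] [FaithfulSMul G Ω]
    [Finite Ω] (p : ℕ) (hp : p.Prime) (hΩ : Nat.card Ω = p)
    (htrans : MulAction.IsPretransitive G Ω) (hins : ¬ Group.IsSolvable G) (P : Sylow p G)
    (hN : 2 * Nat.card ↥(Subgroup.normalizer ((P : Subgroup G) : Set G)) = p * (p - 1))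
    (q r : ℕ) (hq : q.Prime) (hr : r.Prime)
    (hcases : (p = q + 2 ∧ p = 2 * r + 3 ∧ 9 < p) ∨ (p = q + 2 ∧ p = 3 * r + 4 ∧ 13 < p)) :
    Nonempty (G ≃* alternatingGroup (Fin p)) := by
  classical
  haveI := Fintype.ofFinite Ω
  haveI := Fact.mk hp
  haveI := htrans
  haveI := range_pretransitive (G := G) (Ω := Ω)
  set R := (MulAction.toPermHom G Ω).range
  obtain ⟨hR, P', hN'⟩ := range_hyps (Ω := Ω) hp hins P hN
  have hcard : Fintype.card Ω = p := by rw [← hΩ, Nat.card_eq_fintype_card]
  have hpq : p = q + 2 := by rcases hcases with h | h <;> exact h.1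
  have hodd := Nat.odd_iff.1 (hp.odd_of_ne_two (by omega))
  have hq5 : 5 < q := by
    rcases hcases with h | h
    · have : p ≠ 10 := by omega
      have hne : q ≠ 5 := by omega
      have := hr.two_le
      omega
    · omega
  have h5 : Trans R 5 := trans_five hcard hR P' hN' hq hq5 hpq
  have hprim : MulAction.IsPreprimitive R Ω :=
    h5.primitive (by norm_num) (by omega)
  have hA : alternatingGroup Ω ≤ R := by
    rcases hcases with ⟨-, h2, h9⟩ | ⟨-, h2, h13⟩
    · refine three_coprime_case hprim hr (by omega) ?_ (by omega)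
        (h5.mono (by norm_num) (by omega))
      intro h3
      have hd : 3 ∣ q := by omega
      have := (hq.eq_one_or_self_of_dvd 3 hd).resolve_left (by norm_num)
      omega
    · refine four_case hprim hr ?_ (by omega) h5
      omega
  haveI : Nontrivial Ω := Fintype.one_lt_card_iff_nontrivial.1 (by omega)
  have hidx : R.index = 2 := by
    have h := Subgroup.index_dvd_of_le hA
    rw [alternatingGroup.index_eq_two] at h
    rcases (Nat.dvd_prime Nat.prime_two).1 h with h1 | h1
    · exact absurd (Subgroup.index_eq_one.1 h1) (ne_top hcard P' hN')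
    · exact h1
  have hRA : R = alternatingGroup Ω := Equiv.Perm.eq_alternatingGroup_of_index_eq_two hidx
  exact ⟨(MonoidHom.ofInjective (f := MulAction.toPermHom G Ω) toPermHom_injective).trans
    ((MulEquiv.subgroupCongr hRA).trans
      (Equiv.altCongrHom (Fintype.equivFinOfCardEq hcard)))⟩

end Cfsg.Agent.PrimeDegreeHalf
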