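import Cfsg.Agent.PrimeDegreeHalf.Subdegree
import Cfsg.Agent.S0043
import Cfsg.Agent.S0547
import Cfsg.Agent.S0989

/-!
Degree `p = q + 2` with `q` prime: five-fold transitivity.
-/

set_option autoImplicit false

namespace Cfsg.Agent.PrimeDegreeHalf

variable {p : ℕ} [hp : Fact p.Prime] {α : Type*} [Fintype α] [DecidableEq α]
  {G : Subgroup (Equiv.Perm α)}

omit hp in
/-- a soluble transitive group of prime degree `q` has order dividing `q (q - 1)` -/
theorem card_dvd_of_solvable {q : ℕ} (hq : q.Prime) {β : Type*} [Fintype β] [DecidableEq β]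
    (hβ : Fintype.card β = q) (H : Subgroup (Equiv.Perm β)) [MulAction.IsPretransitive H β]
    [Group.IsSolvable H] : Nat.card H ∣ q * (q - 1) := by
  classical
  haveI := Fact.mk hq
  haveI : Nonempty β := Fintype.card_pos_iff.1 (hβ ▸ hq.pos)
  haveI hprim : MulAction.IsPreprimitive H β := MulAction.IsPreprimitive.of_prime_card (by
    rw [Nat.card_eq_fintype_card, hβ]; exact hq)
  haveI : Nontrivial H := by
    by_contra hn
    rw [not_nontrivial_iff_subsingleton] at hn
    obtain ⟨x, y, hxy⟩ := Fintype.exists_pair_of_one_lt_card (hβ ▸ hq.one_lt : 1 < Fintype.card β)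
    obtain ⟨g, hg⟩ := MulAction.exists_smul_eq H x y
    rw [Subsingleton.elim g 1, one_smul] at hg
    exact hxy hg
  let S : Finset (Subgroup H) := Finset.univ.filter fun K => K.Normal ∧ K ≠ ⊥
  have hS : S.Nonempty := ⟨⊤, by simp [S]⟩
  obtain ⟨M, hMS, hmin⟩ := S.exists_min_image (fun K => Nat.card K) hS
  simp only [S, Finset.mem_filter, Finset.mem_univ, true_and] at hMS hmin
  haveI := hMS.1
  obtain ⟨-, -, r, d, hr, hd, hβd, hMd⟩ :=
    Cfsg.Agent.S0547.result hprim M hMS.2 fun K hK hKM => or_iff_not_imp_left.2 fun hne =>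
      Subgroup.eq_of_le_of_card_ge hKM (hmin K ⟨hK, hne⟩)
  have hMq : Nat.card M = q := by rw [hMd, ← hβd, Nat.card_eq_fintype_card, hβ]
  set M' := M.map H.subtype with hM'
  have hM'q : Nat.card M' = q := by
    rw [hM', Subgroup.card_map_of_injective H.subtype_injective, hMq]
  obtain ⟨P, hP⟩ := (IsPGroup.of_card (p := q) (n := 1) (by rw [hM'q, pow_one])).exists_le_sylow
  have hPM : (P : Subgroup (Equiv.Perm β)) = M' := by
    refine (Subgroup.eq_of_le_of_card_ge hP ?_).symm
    rw [hM'q, P.card_eq_multiplicity, Nat.card_perm, Nat.card_eq_fintype_card, hβ]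
    refine (Nat.pow_le_pow_right hq.pos (?_ : q.factorial.factorization q ≤ 1)).trans (pow_one q).le
    by_contra hc
    have hdvd : q ^ 2 ∣ q.factorial :=
      (hq.pow_dvd_iff_le_factorization (Nat.factorial_ne_zero q)).2 (by omega)
    rw [← Nat.mul_factorial_pred hq.ne_zero, sq] at hdvd
    have := hq.dvd_factorial.1 (Nat.dvd_of_mul_dvd_mul_left hq.pos hdvd)
    have := hq.one_lt
    omega
  have hle : H ≤ Subgroup.normalizer ((P : Subgroup (Equiv.Perm β)) : Set (Equiv.Perm β)) := by
    rw [hPM, hM']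
    have h := Subgroup.le_normalizer_map (H := M) H.subtype
    rwa [Subgroup.normalizer_eq_top_iff.2 hMS.1, ← MonoidHom.range_eq_map,
      Subgroup.range_subtype] at h
  rw [← Cfsg.Agent.S0989.result q (Or.inl hβ) P]
  exact Subgroup.card_dvd_of_le hle

/-- `G` is not the symmetric group -/
theorem ne_top (hα : Fintype.card α = p) (P : Sylow p G)
    (hN : 2 * Nat.card (Subgroup.normalizer ((P : Subgroup G) : Set G)) = p * (p - 1)) :
    G ≠ ⊤ := by
  rintro rfl
  let eq : (⊤ : Subgroup (Equiv.Perm α)) ≃* Equiv.Perm α := Subgroup.topEquiv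
  let P' : Sylow p (Equiv.Perm α) := P.mapSurjective (f := eq.toMonoidHom) eq.surjective
  have h : (Subgroup.normalizer ((P : Subgroup (⊤ : Subgroup (Equiv.Perm α))) : Set _)).map
      eq.toMonoidHom = Subgroup.normalizer ((P' : Subgroup (Equiv.Perm α)) : Set (Equiv.Perm α)) :=
    Subgroup.map_equiv_normalizer_eq _ eq
  have hc := Subgroup.card_map_of_injective
    (K := Subgroup.normalizer ((P : Subgroup (⊤ : Subgroup (Equiv.Perm α))) : Set _))
    (f := eq.toMonoidHom) eq.injective
  rw [h, Cfsg.Agent.S0989.result p (Or.inl hα) P'] at hc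
  rw [← hc] at hN
  have : 0 < p * (p - 1) := Nat.mul_pos hp.out.pos (by have := hp.out.two_le; omega)
  omega

theorem not_swap (hα : Fintype.card α = p) (P : Sylow p G)
    (hN : 2 * Nat.card (Subgroup.normalizer ((P : Subgroup G) : Set G)) = p * (p - 1))
    [MulAction.IsPretransitive G α] {a b : α} (hab : a ≠ b) : Equiv.swap a b ∉ G := fun h =>
  ne_top hα P hN (Equiv.Perm.subgroup_eq_top_of_isPreprimitive_of_isSwap_mem
    (MulAction.IsPreprimitive.of_prime_card (by
      rw [Nat.card_eq_fintype_card, hα]; exact hp.out)) _ ⟨a, b, hab, rfl⟩ h)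

/-- the setwise stabilizer of `{a, b}` -/
def pairStab (G : Subgroup (Equiv.Perm α)) (a b : α) : Subgroup (Equiv.Perm α) where
  carrier := {g | g ∈ G ∧ ((g a = a ∧ g b = b) ∨ (g a = b ∧ g b = a))}
  one_mem' := ⟨G.one_mem, .inl ⟨rfl, rfl⟩⟩
  mul_mem' := by
    rintro g h ⟨hg, hg'⟩ ⟨hh, hh'⟩
    refine ⟨G.mul_mem hg hh, ?_⟩
    rcases hh' with ⟨h1, h2⟩ | ⟨h1, h2⟩ <;> rcases hg' with ⟨g1, g2⟩ | ⟨g1, g2⟩ <;>
      simp [Equiv.Perm.mul_apply, h1, h2, g1, g2]
  inv_mem' := by
    rintro g ⟨hg, hg'⟩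
    refine ⟨G.inv_mem hg, ?_⟩
    rcases hg' with ⟨g1, g2⟩ | ⟨g1, g2⟩
    · exact .inl ⟨inv_apply_of g1, inv_apply_of g2⟩
    · exact .inr ⟨inv_apply_of g2, inv_apply_of g1⟩

theorem mem_pairStab {a b : α} {g : Equiv.Perm α} :
    g ∈ pairStab G a b ↔ g ∈ G ∧ ((g a = a ∧ g b = b) ∨ (g a = b ∧ g b = a)) := Iff.rfl

theorem pairStab_maps {a b : α} {g : Equiv.Perm α} (hg : g ∈ pairStab G a b) (x : α) :
    (g x ≠ a ∧ g x ≠ b) ↔ (x ≠ a ∧ x ≠ b) := by
  rcases hg.2 with ⟨g1, g2⟩ | ⟨g1, g2⟩
  · rw [← g.injective.ne_iff (x := x) (y := a), g1, ← g.injective.ne_iff (x := x) (y := b), g2]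
  · rw [← g.injective.ne_iff (x := x) (y := a), g1, ← g.injective.ne_iff (x := x) (y := b), g2,
      and_comm]

/-- restriction of the pair stabilizer to the other points -/
def pairRes (G : Subgroup (Equiv.Perm α)) (a b : α) :
    pairStab G a b →* Equiv.Perm {x : α // x ≠ a ∧ x ≠ b} where
  toFun g := (g : Equiv.Perm α).subtypePerm fun x => pairStab_maps g.2 x
  map_one' := by ext x; rfl
  map_mul' g h := by ext x; rfl

theorem pairRes_apply {a b : α} (g : pairStab G a b) (x : {x : α // x ≠ a ∧ x ≠ b}) :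
    ((pairRes G a b g x : {x : α // x ≠ a ∧ x ≠ b}) : α) = (g : Equiv.Perm α) x := rfl

theorem pairRes_injective {a b : α} (h : Equiv.swap a b ∉ G) :
    Function.Injective (pairRes G a b) := by
  rw [injective_iff_map_eq_one]
  rintro ⟨g, hg, hg'⟩ h1
  have hfix : ∀ x, x ≠ a → x ≠ b → g x = x := fun x hxa hxb =>
    congrArg Subtype.val (DFunLike.congr_fun h1 (⟨x, hxa, hxb⟩ : {x : α // x ≠ a ∧ x ≠ b}))
  refine Subtype.ext ?_
  rcases hg' with ⟨g1, g2⟩ | ⟨g1, g2⟩
  · refine Equiv.ext fun x => ?_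
    by_cases hxa : x = a
    · exact hxa ▸ g1
    by_cases hxb : x = b
    · exact hxb ▸ g2
    exact hfix x hxa hxb
  · exact absurd ((Equiv.ext fun x => by
      by_cases hxa : x = a
      · rw [hxa, g1, Equiv.swap_apply_left]
      by_cases hxb : x = b
      · rw [hxb, g2, Equiv.swap_apply_right]
      rw [hfix x hxa hxb, Equiv.swap_apply_of_ne_of_ne hxa hxb]) : g = Equiv.swap a b) (fun e => h (e ▸ hg))

theorem trans_five (hα : Fintype.card α = p) [MulAction.IsPretransitive G α]
    (hG : ¬ Group.IsSolvable G) (P : Sylow p G)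
    (hN : 2 * Nat.card (Subgroup.normalizer ((P : Subgroup G) : Set G)) = p * (p - 1))
    {q : ℕ} (hq : q.Prime) (hq5 : 5 < q) (hpq : p = q + 2) : Trans G 5 := by
  classical
  have h3 := trans_three hα hG P hN hq hq5 hpq
  haveI := Fact.mk hq
  have hcardα : Nat.card α = p := by rw [Nat.card_eq_fintype_card, hα]
  have hqodd : q % 2 = 1 := Nat.odd_iff.1 (hq.odd_of_ne_two (by omega))
  -- for every pair: the other points are permuted doubly, resp. triply transitively
  have key : ∀ a b : α, a ≠ b →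
      (∀ c d c' d', c ≠ a → c ≠ b → d ≠ a → d ≠ b → c ≠ d → c' ≠ a → c' ≠ b → d' ≠ a → d' ≠ b →
        c' ≠ d' → ∃ g ∈ G, g a = a ∧ g b = b ∧ g c = c' ∧ g d = d') ∧
      (∀ c d e f, c ≠ a → c ≠ b → d ≠ a → d ≠ b → c ≠ d → e ≠ a → e ≠ b → e ≠ c → e ≠ d →
        f ≠ a → f ≠ b → f ≠ c → f ≠ d →
        ∃ g ∈ G, g a = a ∧ g b = b ∧ g c = c ∧ g d = d ∧ g e = f) := by
    intro a b hab
    set β := {x : α // x ≠ a ∧ x ≠ b}
    have hβ : Fintype.card β = q := by
      rw [Fintype.card_subtype]
      have : (Finset.univ.filter fun x : α => x ≠ a ∧ x ≠ b) = (Finset.univ.erase a).erase b := by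
        ext x; simp [and_comm]
      rw [this, Finset.card_erase_of_mem (by simp [hab.symm]), Finset.card_erase_of_mem (by simp),
        Finset.card_univ, hα]
      omega
    set ρ := pairRes G a b
    have hinj : Function.Injective ρ := pairRes_injective (not_swap hα P hN hab)
    let K : Subgroup (pairStab G a b) :=
      (MulAction.stabilizer (Equiv.Perm α) a).subgroupOf (pairStab G a b)
    have hK : ∀ g : pairStab G a b, g ∈ K ↔ (g : Equiv.Perm α) a = a := fun g =>
      Subgroup.mem_subgroupOf.trans MulAction.mem_stabilizer_iff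
    have hKb : ∀ g : pairStab G a b, (g : Equiv.Perm α) a = a → (g : Equiv.Perm α) b = b :=
      fun g hg => by
        rcases g.2.2 with ⟨-, h⟩ | ⟨h, -⟩
        · exact h
        · exact absurd (hg.symm.trans h) hab
    obtain ⟨s, hs, hsa, hsb⟩ := (h3.mono (by omega) (by omega : 3 ≤ Nat.card α)).two
      (R := G) hab hab.symm (a' := b) (b' := a)
    have hKindex : K.index = 2 := by
      rw [Subgroup.index_eq_two_iff]
      refine ⟨⟨s, hs, .inr ⟨hsa, hsb⟩⟩, fun g => ?_⟩
      rw [xor_iff_or_and_not_and, hK, hK]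
      simp only [Subgroup.coe_mul, Equiv.Perm.mul_apply, hsa]
      rcases g.2.2 with ⟨g1, g2⟩ | ⟨g1, g2⟩
      · refine ⟨.inr g1, fun h => ?_⟩
        exact hab (h.1.symm.trans g2)
      · refine ⟨.inl g2, fun h => hab ?_⟩
        exact (h.2.symm.trans g1)
    set H := ρ.range
    set H0 := K.map ρ.rangeRestrict with hH0
    have hH0i : H0.index = 2 := by
      rw [hH0, Subgroup.index_map_eq _ ρ.rangeRestrict_surjective, hKindex]
      rw [MonoidHom.ker_rangeRestrict, (MonoidHom.ker_eq_bot_iff ρ).2 hinj]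
      exact bot_le
    haveI hH0n : H0.Normal := Subgroup.normal_of_index_eq_two hH0i
    set L := K.map ρ with hL
    have hKG : ∀ g ∈ G, g a = a → g b = b → ∃ u ∈ K, (u : Equiv.Perm α) = g := fun g hg ha hb =>
      ⟨⟨g, hg, .inl ⟨ha, hb⟩⟩, (hK _).2 ha, rfl⟩
    haveI hLt : MulAction.IsPretransitive L β := ⟨fun x y => by
      obtain ⟨g, hg, ha, hb, hxy⟩ := h3.three hab x.2.1.symm x.2.2.symm hab y.2.1.symm y.2.2.symm
      obtain ⟨u, hu, rfl⟩ := hKG g hg ha hb
      exact ⟨⟨ρ u, u, hu, rfl⟩, Subtype.ext hxy⟩⟩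
    haveI hHt : MulAction.IsPretransitive H β := ⟨fun x y => by
      obtain ⟨w, hw⟩ := MulAction.exists_smul_eq L x y
      obtain ⟨u, -, hu⟩ := w.2
      exact ⟨⟨w.1, u, hu⟩, hw⟩⟩
    have hLins : ¬ Group.IsSolvable L := by
      intro hsol
      haveI := hsol
      have hdvd := card_dvd_of_solvable hq hβ L
      have hqdvd : q ∣ Nat.card L := by
        obtain ⟨x⟩ : Nonempty β := Fintype.card_pos_iff.1 (hβ ▸ hq.pos)
        rw [← hβ, ← Nat.card_eq_fintype_card, ← MulAction.index_stabilizer_of_transitive L x]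
        exact Subgroup.index_dvd_card _
      obtain ⟨d, hd⟩ := hqdvd
      rw [hd] at hdvd
      replace hdvd : d ∣ q - 1 := Nat.dvd_of_mul_dvd_mul_left hq.pos hdvd
      -- the order of `G`
      have hcardG : Nat.card G = p * (p - 1) * (q * d) := by
        set A := MulAction.stabilizer G a with hA
        set B := MulAction.stabilizer A b with hB
        have horb : MulAction.orbit A b = {a}ᶜ := by
          ext x
          rw [Set.mem_compl_singleton_iff]
          constructor
          · rintro ⟨⟨⟨g, hg⟩, hga⟩, rfl⟩ e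
            exact hab (g.injective (((hga : g a = a)).trans e.symm))
          · intro hx
            obtain ⟨g, hg, ha, hb⟩ := (h3.mono (by omega) (by omega : 3 ≤ Nat.card α)).two
              (R := G) hab (Ne.symm hx) (a' := a) (b' := x)
            exact ⟨⟨⟨g, hg⟩, ha⟩, hb⟩
        have h1 : A.index = p := (MulAction.index_stabilizer_of_transitive G a).trans hcardα
        have h2 : B.index = p - 1 := by
          rw [hB, MulAction.index_stabilizer, horb, Set.ncard_compl, Set.ncard_singleton, hcardα]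
        have hBK : Nat.card B = q * d := by
          rw [← hd, hL, Subgroup.card_map_of_injective hinj]
          refine Nat.card_congr
            { toFun := fun g => ⟨⟨g.1.1.1, g.1.1.2, .inl ⟨g.1.2, g.2⟩⟩, (hK _).2 g.1.2⟩
              invFun := fun u => ⟨⟨⟨u.1.1, u.1.2.1⟩, (hK u.1).1 u.2⟩, hKb u.1 ((hK u.1).1 u.2)⟩
              left_inv := fun g => rfl
              right_inv := fun u => rfl }
        rw [← A.card_mul_index, ← B.card_mul_index, h1, h2, hBK]
        ring
      have hidx := (Subgroup.normalizer ((P : Subgroup G) : Set G)).card_mul_index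
      rw [show (Subgroup.normalizer ((P : Subgroup G) : Set G)).index = Nat.card (Sylow p G) from
        P.card_eq_index_normalizer.symm, hcardG] at hidx
      have hn : Nat.card (Sylow p G) = 2 * (q * d) := by
        have h : p * (p - 1) * Nat.card (Sylow p G) = p * (p - 1) * (2 * (q * d)) := by
          calc _ = 2 * (Nat.card (Subgroup.normalizer ((P : Subgroup G) : Set G)) *
                Nat.card (Sylow p G)) := by rw [← hN]; ring
            _ = _ := by rw [hidx]; ring
        exact Nat.eq_of_mul_eq_mul_left (Nat.mul_pos hp.out.pos (by omega)) h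
      have hmod : Nat.card (Sylow p G) ≡ 1 [MOD p] := card_sylow_modEq_one p G
      rw [hn] at hmod
      have hdiv : p ∣ 4 * d + 1 := by
        rw [← ZMod.natCast_eq_zero_iff, Nat.cast_add, Nat.cast_mul, Nat.cast_one] 
        have h' := (ZMod.natCast_eq_natCast_iff _ _ _).2 hmod
        push_cast at h'
        have hpz : ((q + 2 : ℕ) : ZMod p) = 0 := hpq ▸ ZMod.natCast_self p
        push_cast at hpz
        push_cast
        linear_combination (-1 : ZMod p) * h' + 2 * (d : ZMod p) * hpz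
      obtain ⟨m, hm⟩ := hdiv
      obtain ⟨j, hj⟩ := hdvd
      have hdle : d ≤ q - 1 := Nat.le_of_dvd (by omega) ⟨j, hj⟩
      have hmle : m ≤ 3 := by
        by_contra hc
        have : p * 4 ≤ p * m := Nat.mul_le_mul_left p (by omega)
        omega
      have hq9 : p ≠ 11 := by
        rintro rfl
        have : q = 9 := by omega
        subst this
        norm_num at hq
      interval_cases m
      · omega
      · -- `4 d + 1 = p`
        have hdd : d ∣ 2 := by
          have h1 : d ∣ 4 * d := dvd_mul_left d 4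
          have h2 : d ∣ q - 1 := ⟨j, hj⟩
          have := Nat.dvd_sub h1 h2
          rwa [show 4 * d - (q - 1) = 2 by omega] at this
        have := Nat.le_of_dvd two_pos hdd
        have hp9 : p ≠ 9 := by
          intro h
          have := hp.out
          rw [h] at this
          norm_num at this
        omega
      · omega
      · -- `4 d + 1 = 3 p`
        rcases Nat.lt_or_ge j 2 with hj2 | hj2
        · interval_cases j <;> omega
        · have : d * 2 ≤ d * j := Nat.mul_le_mul_left d hj2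
          omega
    have hL2 : MulAction.IsMultiplyPretransitive L β 2 :=
      (Cfsg.Agent.S0675.result (hβ.symm ▸ hq) L).resolve_left hLins
    have hHins : ¬ Group.IsSolvable H := by
      intro hsol
      haveI := hsol
      have hle : L ≤ H := by
        rintro _ ⟨u, -, rfl⟩
        exact ⟨u, rfl⟩
      exact hLins (Group.isSolvable_of_isSolvable_injective (f := Subgroup.inclusion hle)
        (Subgroup.inclusion_injective hle))
    obtain ⟨Q⟩ : Nonempty (Sylow q H) := inferInstance
    have heven : Even (Nat.card (Subgroup.normalizer ((Q : Subgroup H) : Set H))) := by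
      by_contra hodd
      rw [Nat.not_even_iff_odd] at hodd
      have hle : ∀ x : H, Odd (orderOf x) → x ∈ H0 := by
        intro x hx
        rw [← QuotientGroup.eq_one_iff, ← orderOf_eq_one_iff]
        have h1 : orderOf (x : H ⧸ H0) ∣ orderOf x :=
          orderOf_map_dvd (QuotientGroup.mk' H0) x
        have h2 : orderOf (x : H ⧸ H0) ∣ 2 := hH0i ▸ (orderOf_dvd_natCard _)
        rcases (Nat.dvd_prime Nat.prime_two).1 h2 with h | h
        · exact h
        · exact absurd (hx.of_dvd_nat (h ▸ h1)) (by decide)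
      have hQle : (Q : Subgroup H) ≤ H0 := fun x hx => by
        obtain ⟨k, hk⟩ := Q.isPGroup' ⟨x, hx⟩
        apply hle
        refine Odd.of_dvd_nat ((Nat.odd_iff.2 hqodd).pow (n := k)) (orderOf_dvd_of_pow_eq_one ?_)
        exact congrArg Subtype.val hk
      have htop := Sylow.normalizer_sup_eq_top (Q.subtype hQle)
      rw [Sylow.coe_subtype, Subgroup.map_subgroupOf_eq_of_le hQle] at htop
      have hNle : Subgroup.normalizer ((Q : Subgroup H) : Set H) ≤ H0 := fun x hx =>
        hle x (hodd.of_dvd_nat (Subgroup.orderOf_dvd_natCard _ hx))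
      rw [sup_eq_right.2 hNle] at htop
      rw [htop, Subgroup.index_top] at hH0i
      omega
    have hH3 : Trans H 3 := trans_iff.2 (Cfsg.Agent.S0676.result hβ H hHins Q heven)
    refine ⟨fun c d c' d' hca hcb hda hdb hcd hca' hcb' hda' hdb' hcd' => ?_,
      fun c d e f hca hcb hda hdb hcd hea heb hec hed hfa hfb hfc hfd => ?_⟩
    · obtain ⟨_, ⟨u, hu, rfl⟩, h1, h2⟩ := (trans_iff.2 hL2).two
        (a := (⟨c, hca, hcb⟩ : β)) (b := ⟨d, hda, hdb⟩) (a' := ⟨c', hca', hcb'⟩) (b' := ⟨d', hda', hdb'⟩)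
        (fun h => hcd (congrArg Subtype.val h)) (fun h => hcd' (congrArg Subtype.val h))
      exact ⟨u.1, u.2.1, (hK u).1 hu, hKb u ((hK u).1 hu), congrArg Subtype.val h1,
        congrArg Subtype.val h2⟩
    -- one more point, with `a, b, c, d` held fixed
    set A := (pairStab G a b ⊓ MulAction.stabilizer (Equiv.Perm α) c) ⊓
      MulAction.stabilizer (Equiv.Perm α) d with hA
    have hmemA : ∀ g, g ∈ A ↔ g ∈ pairStab G a b ∧ g c = c ∧ g d = d := fun g => by
      simp only [hA, Subgroup.mem_inf, MulAction.mem_stabilizer_iff, Equiv.Perm.smul_def, and_assoc]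
    have hAtr : ∀ e f, e ≠ a → e ≠ b → e ≠ c → e ≠ d → f ≠ a → f ≠ b → f ≠ c → f ≠ d →
        ∃ g ∈ A, g e = f := by
      intro e f hea heb hec hed hfa hfb hfc hfd
      obtain ⟨_, ⟨u, rfl⟩, h1, h2, h3⟩ := hH3.three
        (a := (⟨c, hca, hcb⟩ : β)) (b := ⟨d, hda, hdb⟩) (c := ⟨e, hea, heb⟩)
        (a' := ⟨c, hca, hcb⟩) (b' := ⟨d, hda, hdb⟩) (c' := ⟨f, hfa, hfb⟩)
        (fun h => hcd (congrArg Subtype.val h)) (fun h => hec (congrArg Subtype.val h).symm)
        (fun h => hed (congrArg Subtype.val h).symm) (fun h => hcd (congrArg Subtype.val h))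
        (fun h => hfc (congrArg Subtype.val h).symm) (fun h => hfd (congrArg Subtype.val h).symm)
      exact ⟨u.1, (hmemA _).2 ⟨u.2, congrArg Subtype.val h1, congrArg Subtype.val h2⟩,
        congrArg Subtype.val h3⟩
    suffices h : ∃ g ∈ A, g a = a ∧ g e = f by
      obtain ⟨g, hg, hga, hge⟩ := h
      rw [hmemA] at hg
      exact ⟨g, hg.1.1, hga, hKb ⟨g, hg.1⟩ hga, hg.2.1, hg.2.2, hge⟩
    obtain ⟨v, hv, hve⟩ := hAtr e f hea heb hec hed hfa hfb hfc hfd
    by_cases hva : v a = a
    · exact ⟨v, hv, hva, hve⟩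
    have hvab : ∀ g ∈ A, g a ≠ a → g a = b ∧ g b = a := fun g hg hga => by
      rcases ((hmemA g).1 hg).1.2 with h | h
      · exact absurd h.1 hga
      · exact h
    by_cases ht : ∃ t ∈ A, t a ≠ a ∧ t e = e
    · obtain ⟨t, ht, hta, hte⟩ := ht
      refine ⟨v * t, A.mul_mem hv ht, ?_, by rw [Equiv.Perm.mul_apply, hte, hve]⟩
      rw [Equiv.Perm.mul_apply, (hvab t ht hta).1, (hvab v hv hva).2]
    exfalso
    set rest := Finset.univ.filter fun x : α => x ≠ a ∧ x ≠ b ∧ x ≠ c ∧ x ≠ d with hrest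
    set O := Finset.univ.filter fun x : α => ∃ g ∈ A, g a = a ∧ g e = x with hO
    have hmemO : ∀ x, x ∈ O ↔ ∃ g ∈ A, g a = a ∧ g e = x := fun x => by simp [hO]
    have hAne : ∀ g ∈ A, g e ≠ a ∧ g e ≠ b ∧ g e ≠ c ∧ g e ≠ d := fun g hg => by
      rw [hmemA] at hg
      obtain ⟨h1, h2⟩ := (pairStab_maps hg.1 e).2 ⟨hea, heb⟩
      exact ⟨h1, h2, fun h => hec (g.injective (h.trans hg.2.1.symm)),
        fun h => hed (g.injective (h.trans hg.2.2.symm))⟩
    have hsplit : rest = O ∪ O.image v := by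
      ext x
      simp only [hrest, Finset.mem_filter, Finset.mem_univ, true_and, Finset.mem_union,
        Finset.mem_image, hmemO]
      constructor
      · rintro ⟨hxa, hxb, hxc, hxd⟩
        obtain ⟨g, hg, hge⟩ := hAtr e x hea heb hec hed hxa hxb hxc hxd
        by_cases hga : g a = a
        · exact .inl ⟨g, hg, hga, hge⟩
        · refine .inr ⟨v⁻¹ x, ⟨v⁻¹ * g, A.mul_mem (A.inv_mem hv) hg, ?_, ?_⟩, v.apply_symm_apply x⟩
          · rw [Equiv.Perm.mul_apply, (hvab g hg hga).1, inv_apply_of (hvab v hv hva).1]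
          · rw [Equiv.Perm.mul_apply, hge]
      · rintro (⟨g, hg, -, rfl⟩ | ⟨_, ⟨g, hg, -, rfl⟩, rfl⟩)
        · exact hAne g hg
        · exact hAne (v * g) (A.mul_mem hv hg)
    have hdis : Disjoint O (O.image v) := Finset.disjoint_left.2 fun x hx hx' => by
      rw [hmemO] at hx
      obtain ⟨g, hg, hga, rfl⟩ := hx
      obtain ⟨y, hy, hyx⟩ := Finset.mem_image.1 hx'
      obtain ⟨g', hg', hga', rfl⟩ := (hmemO y).1 hy
      refine ht ⟨g⁻¹ * (v * g'), A.mul_mem (A.inv_mem hg) (A.mul_mem hv hg'), ?_, ?_⟩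
      · rw [Equiv.Perm.mul_apply, Equiv.Perm.mul_apply, hga', (hvab v hv hva).1]
        intro h
        have h' := congrArg g h
        rw [show g (g⁻¹ b) = b from g.apply_symm_apply b, hga] at h'
        exact hab h'.symm
      · rw [Equiv.Perm.mul_apply, Equiv.Perm.mul_apply, hyx, inv_apply_of rfl]
    have hcard : rest.card = q - 2 := by
      have h : rest = ((((Finset.univ.erase a).erase b).erase c).erase d) := by
        ext x
        simp [hrest]; tauto
      rw [h, Finset.card_erase_of_mem (by simp [hda, hdb, hcd.symm]),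
        Finset.card_erase_of_mem (by simp [hca, hcb]),
        Finset.card_erase_of_mem (by simp [hab.symm]), Finset.card_erase_of_mem (by simp),
        Finset.card_univ, hα]
      omega
    rw [hsplit, Finset.card_union_of_disjoint hdis, Finset.card_image_of_injective _ v.injective]
      at hcard
    omega
  have h4 : Trans G 4 := h3.succ fun x hx e f he hf => by
    have hne : ∀ i j : Fin 3, i ≠ j → x i ≠ x j := fun i j hij h => hij (hx h)
    obtain ⟨g, hg, ha, hb, hc, hd⟩ := (key (x 0) (x 1) (hne _ _ (by decide))).1 (x 2) e (x 2) f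
      (hne _ _ (by decide)) (hne _ _ (by decide))
      (fun h => he ⟨0, h.symm⟩) (fun h => he ⟨1, h.symm⟩) (fun h => he ⟨2, h⟩)
      (hne _ _ (by decide)) (hne _ _ (by decide))
      (fun h => hf ⟨0, h.symm⟩) (fun h => hf ⟨1, h.symm⟩) (fun h => hf ⟨2, h⟩)
    refine ⟨g, hg, fun i => ?_, hd⟩
    fin_cases i
    · exact ha
    · exact hb
    · exact hc
  refine h4.succ fun x hx e f he hf => ?_
  have hne : ∀ i j : Fin 4, i ≠ j → x i ≠ x j := fun i j hij h => hij (hx h)
  obtain ⟨g, hg, ha, hb, hc, hd, hef⟩ := (key (x 0) (x 1) (hne _ _ (by decide))).2 (x 2) (x 3) e f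
    (hne _ _ (by decide)) (hne _ _ (by decide)) (hne _ _ (by decide)) (hne _ _ (by decide))
    (hne _ _ (by decide))
    (fun h => he ⟨0, h.symm⟩) (fun h => he ⟨1, h.symm⟩) (fun h => he ⟨2, h.symm⟩)
    (fun h => he ⟨3, h.symm⟩)
    (fun h => hf ⟨0, h.symm⟩) (fun h => hf ⟨1, h.symm⟩) (fun h => hf ⟨2, h.symm⟩)
    (fun h => hf ⟨3, h.symm⟩)
  refine ⟨g, hg, fun i => ?_, hef⟩
  fin_cases i
  · exact ha
  · exact hb
  · exact hc
  · exact hd

end Cfsg.Agent.PrimeDegreeHalf
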