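import Cfsg.Agent.PrimeDegreeHalf.Multi

/-!
A Sylow `r`-subgroup of the pointwise stabilizer of a short tuple, when the group is transitive
on the remaining `t r` points with `t < r`.
-/

set_option autoImplicit false

namespace Cfsg.Agent.PrimeDegreeHalf

variable {α : Type*} [Fintype α] [DecidableEq α] {R : Subgroup (Equiv.Perm α)}

/-- two points in one orbit of `S` -/
def Rel (S : Subgroup (Equiv.Perm α)) (o o' : α) : Prop := ∃ s ∈ S, s o = o'

omit [Fintype α] [DecidableEq α] in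
theorem rel_equivalence (S : Subgroup (Equiv.Perm α)) : Equivalence (Rel S) :=
  ⟨fun o => ⟨1, S.one_mem, rfl⟩,
    fun {o o'} ⟨s, hs, h⟩ => ⟨s⁻¹, S.inv_mem hs, Equiv.Perm.inv_eq_iff_eq.2 h.symm⟩,
    fun {o o' o''} ⟨s, hs, h⟩ ⟨u, hu, h'⟩ => ⟨u * s, S.mul_mem hu hs, by
      rw [Equiv.Perm.mul_apply, h, h']⟩⟩

/-- what is used of the Sylow subgroup -/
structure Frame (R : Subgroup (Equiv.Perm α)) {k : ℕ} (x : Fin k → α) (r t : ℕ) where
  S : Subgroup (Equiv.Perm α)
  le : S ≤ R
  fix : ∀ s ∈ S, ∀ i, s (x i) = x i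
  move : ∀ o, o ∉ Set.range x → ∃ s ∈ S, s o ≠ o
  pow : ∀ s ∈ S, s ^ r = 1
  comm : ∀ s ∈ S, ∀ u ∈ S, ∀ o, s (u o) = u (s o)
  cyc : ∀ o, ∀ s ∈ S, s o ≠ o → ∀ u ∈ S, ∃ m : ℕ, u o = (s ^ m) o
  lift : ∀ σ : Equiv.Perm (Fin k), ∃ n ∈ R, n ∈ Subgroup.normalizer (S : Set (Equiv.Perm α)) ∧
    ∀ i, n (x i) = x (σ i)
  few : ∀ o : Fin (t + 1) → α, (∀ i, o i ∉ Set.range x) → ∃ i j, i ≠ j ∧ Rel S (o i) (o j)

theorem exists_frame {k r t : ℕ} (hr : r.Prime) (htr : t < r)
    (hα : Fintype.card α = k + t * r) (h : Trans R (k + 1)) (ht : 0 < t)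
    {x : Fin k → α} (hx : Function.Injective x) : Nonempty (Frame R x r t) := by
  classical
  haveI := Fact.mk hr
  have hk : Trans R k := h.mono (Nat.le_succ k) (by
    rw [Nat.card_eq_fintype_card, hα]
    have : 1 ≤ t * r := Nat.mul_pos ht hr.pos
    omega)
  let A : Subgroup (Equiv.Perm α) :=
    { carrier := {g | g ∈ R ∧ ∀ i, g (x i) = x i}
      one_mem' := ⟨R.one_mem, fun i => rfl⟩
      mul_mem' := fun {g g'} hg hg' => ⟨R.mul_mem hg.1 hg'.1, fun i => by
        rw [Equiv.Perm.mul_apply, hg'.2, hg.2]⟩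
      inv_mem' := fun {g} hg => ⟨R.inv_mem hg.1, fun i => Equiv.Perm.inv_eq_iff_eq.2 (hg.2 i).symm⟩ }
  have hmemA : ∀ g, g ∈ A ↔ g ∈ R ∧ ∀ i, g (x i) = x i := fun g => Iff.rfl
  have hrest : (Set.range x)ᶜ.ncard = t * r := by
    rw [Set.ncard_compl, Nat.card_eq_fintype_card, Set.ncard_range_of_injective hx, hα,
      Nat.card_eq_fintype_card, Fintype.card_fin]
    omega
  have horb : ∀ o, o ∉ Set.range x → MulAction.orbit A o = (Set.range x)ᶜ := by
    intro o ho
    ext o'
    constructor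
    · rintro ⟨⟨g, hg⟩, rfl⟩ ⟨i, hi⟩
      exact ho ⟨i, g.injective ((((hmemA g).1 hg).2 i).trans hi)⟩
    · intro ho'
      obtain ⟨g, hg, hgi⟩ := h (Fin.snoc x o) (Fin.snoc x o')
        (Fin.snoc_injective_iff.2 ⟨hx, ho⟩) (Fin.snoc_injective_iff.2 ⟨hx, ho'⟩)
      refine ⟨⟨g, hg, fun i => by simpa using hgi i.castSucc⟩, ?_⟩
      show g o = o'
      simpa using hgi (Fin.last k)
  obtain ⟨S0⟩ : Nonempty (Sylow r A) := inferInstance
  set S := (S0 : Subgroup A).map A.subtype with hS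
  have hSA : S ≤ A := Subgroup.map_subtype_le _
  have hSp : IsPGroup r S := S0.isPGroup'.map _
  have hSfix : ∀ s ∈ S, ∀ i, s (x i) = x i := fun s hs => ((hmemA s).1 (hSA hs)).2
  have hmove : ∀ o, o ∉ Set.range x → ∃ s ∈ S, s o ≠ o := by
    intro o ho
    by_contra hn
    simp only [not_exists, not_and, not_not] at hn
    have hle : (S0 : Subgroup A) ≤ MulAction.stabilizer A o := fun g hg =>
      hn g.1 ⟨g, hg, rfl⟩
    refine S0.not_dvd_index ((Dvd.intro_left t ?_).trans (Subgroup.index_dvd_of_le hle))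
    rw [MulAction.index_stabilizer, horb o ho, hrest]
  have hidx : ∀ o, o ∉ Set.range x → (MulAction.stabilizer S o).index = r := by
    intro o ho
    obtain ⟨n, hn⟩ := hSp.index (MulAction.stabilizer S o)
    have hle : (MulAction.stabilizer S o).index ≤ t * r := by
      rw [MulAction.index_stabilizer, ← hrest, ← horb o ho]
      refine Set.ncard_le_ncard ?_ (Set.toFinite _)
      rintro _ ⟨⟨s, hs⟩, rfl⟩
      exact ⟨⟨s, hSA hs⟩, rfl⟩
    rcases Nat.lt_or_ge n 2 with h2 | h2
    · interval_cases n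
      · exfalso
        rw [pow_zero, Subgroup.index_eq_one] at hn
        obtain ⟨s, hs, hso⟩ := hmove o ho
        exact hso (MulAction.mem_stabilizer_iff.1 (hn ▸ Subgroup.mem_top (⟨s, hs⟩ : S)))
      · rw [hn, pow_one]
    · exfalso
      have h1 : r * r ≤ r ^ n := by rw [← sq]; exact Nat.pow_le_pow_right hr.pos h2
      have h2' : t * r < r * r := Nat.mul_lt_mul_of_pos_right htr hr.pos
      omega
  have hnormal : ∀ o, o ∉ Set.range x → (MulAction.stabilizer S o).Normal := by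
    intro o ho
    refine Subgroup.normal_of_index_eq_minFac_card ?_
    rw [hidx o ho]
    obtain ⟨n, hn⟩ := IsPGroup.iff_card.1 hSp
    have h0 : n ≠ 0 := by
      rintro rfl
      have := Subgroup.index_dvd_card (MulAction.stabilizer S o)
      rw [hidx o ho, hn, pow_zero] at this
      exact hr.one_lt.ne' (Nat.dvd_one.1 this)
    rw [hn, Nat.Prime.pow_minFac hr h0]
  have hpow : ∀ s ∈ S, s ^ r = 1 := by
    intro s hs
    refine Equiv.ext fun o => ?_
    show (s ^ r) o = o
    by_cases ho : o ∈ Set.range x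
    · obtain ⟨i, rfl⟩ := ho
      exact hSfix _ (pow_mem hs r) i
    · haveI := hnormal o ho
      have := Subgroup.pow_index_mem (MulAction.stabilizer S o) (⟨s, hs⟩ : S)
      rw [hidx o ho] at this
      exact MulAction.mem_stabilizer_iff.1 this
  have horbit : ∀ o, o ∉ Set.range x →
      (Finset.univ.filter fun o' => Rel S o o').card = r := by
    intro o ho
    rw [← hidx o ho, MulAction.index_stabilizer, ← Set.ncard_coe_finset]
    congr 1
    ext o'
    simp only [Finset.coe_filter, Finset.mem_univ, true_and, Set.mem_setOf_eq]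
    exact ⟨fun ⟨s, hs, h⟩ => ⟨⟨s, hs⟩, h⟩, fun ⟨⟨s, hs⟩, h⟩ => ⟨s, hs, h⟩⟩
  have hsame : ∀ o, o ∉ Set.range x → ∀ s ∈ S, s o = o → ∀ u ∈ S, s (u o) = u o := by
    intro o ho s hs hso u hu
    haveI := hnormal o ho
    have h1 : (⟨u, hu⟩⁻¹ * ⟨s, hs⟩ * ⟨u, hu⟩ : S) ∈ MulAction.stabilizer S o := by
      have := Subgroup.Normal.conj_mem inferInstance (⟨s, hs⟩ : S)
        (MulAction.mem_stabilizer_iff.2 hso : (⟨s, hs⟩ : S) ∈ MulAction.stabilizer S o)
        (⟨u, hu⟩ : S)⁻¹
      rwa [inv_inv] at this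
    have h2 : u⁻¹ (s (u o)) = o := MulAction.mem_stabilizer_iff.1 h1
    have h3 := congrArg u h2
    rwa [show u (u⁻¹ (s (u o))) = s (u o) from u.apply_symm_apply _] at h3
  have hcyc : ∀ o, ∀ s ∈ S, s o ≠ o → ∀ u ∈ S, ∃ m : ℕ, u o = (s ^ m) o := by
    intro o s hs hso u hu
    have ho : o ∉ Set.range x := fun ⟨i, hi⟩ => hso (hi ▸ hSfix s hs i)
    set O := Finset.univ.filter fun o' => Rel S o o'
    have hinj : Set.InjOn (fun m : ℕ => (s ^ m) o) (Finset.range r) := by
      intro m hm n hn hmn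
      simp only [Finset.coe_range, Set.mem_Iio] at hm hn
      wlog hle : m ≤ n generalizing m n
      · exact (this (m := n) (n := m) (hm := hn) (hn := hm) (hmn := hmn.symm) (Nat.le_of_not_le hle)).symm
      by_contra hne
      have h1 : s ^ (n - m) ∈ MulAction.stabilizer (Equiv.Perm α) o := by
        rw [MulAction.mem_stabilizer_iff, Equiv.Perm.smul_def]
        apply (s ^ m).injective
        rw [← Equiv.Perm.mul_apply, ← pow_add, Nat.add_sub_cancel' hle]
        exact hmn.symm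
      have h2 : s ^ r ∈ MulAction.stabilizer (Equiv.Perm α) o := by
        rw [hpow s hs]; exact Subgroup.one_mem _
      have hg : s ^ Nat.gcd (n - m) r ∈ MulAction.stabilizer (Equiv.Perm α) o := by
        rw [← zpow_natCast, Nat.gcd_eq_gcd_ab, zpow_add, zpow_mul, zpow_mul, zpow_natCast,
          zpow_natCast]
        exact Subgroup.mul_mem _ (Subgroup.zpow_mem _ h1 _) (Subgroup.zpow_mem _ h2 _)
      have hco : Nat.gcd (n - m) r = 1 :=
        (hr.coprime_iff_not_dvd.2 fun hd => by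
          have := Nat.le_of_dvd (by omega) hd
          omega).symm
      rw [hco, pow_one] at hg
      exact hso hg
    have himg : (Finset.range r).image (fun m => (s ^ m) o) = O := by
      refine Finset.eq_of_subset_of_card_le (fun o' ho' => ?_) ?_
      · obtain ⟨m, -, rfl⟩ := Finset.mem_image.1 ho'
        exact Finset.mem_filter.2 ⟨Finset.mem_univ _, _, pow_mem hs m, rfl⟩
      · rw [Finset.card_image_of_injOn hinj, Finset.card_range, horbit o ho]
    have : u o ∈ O := Finset.mem_filter.2 ⟨Finset.mem_univ _, u, hu, rfl⟩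
    rw [← himg] at this
    obtain ⟨m, -, hm⟩ := Finset.mem_image.1 this
    exact ⟨m, hm.symm⟩
  refine ⟨{
    S := S
    le := fun s hs => ((hmemA s).1 (hSA hs)).1
    fix := hSfix
    move := hmove
    pow := hpow
    cyc := hcyc
    comm := ?_
    lift := ?_
    few := ?_ }⟩
  · intro s hs u hu o
    by_cases ho : o ∈ Set.range x
    · obtain ⟨i, rfl⟩ := ho
      rw [hSfix u hu, hSfix s hs, hSfix u hu]
    by_cases hso : s o = o
    · rw [hso, hsame o ho s hs hso u hu]
    · obtain ⟨m, hm⟩ := hcyc o s hs hso u hu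
      -- `(s ^ m)⁻¹ * u` fixes the whole orbit
      have h1 := hsame o ho ((s ^ m)⁻¹ * u) (S.mul_mem (S.inv_mem (pow_mem hs m)) hu)
        (by rw [Equiv.Perm.mul_apply, hm]; exact (s ^ m).symm_apply_apply o) s hs
      rw [Equiv.Perm.mul_apply] at h1
      have h2 := congrArg (s ^ m) h1
      rw [show (s ^ m) ((s ^ m)⁻¹ (u (s o))) = u (s o) from (s ^ m).apply_symm_apply _] at h2
      rw [hm, h2]
      show (s * s ^ m) o = (s ^ m * s) o
      rw [pow_mul_comm']
  · intro σ
    obtain ⟨g, hg, hgx⟩ := hk x (x ∘ σ) hx (hx.comp σ.injective)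
    have hgA : ∀ a ∈ A, g * a * g⁻¹ ∈ A := fun a ha => by
      refine (hmemA _).2 ⟨R.mul_mem (R.mul_mem hg ((hmemA a).1 ha).1) (R.inv_mem hg), fun i => ?_⟩
      have hi : g⁻¹ (x i) = x (σ⁻¹ i) := by
        rw [Equiv.Perm.inv_eq_iff_eq, hgx]
        exact congrArg x (σ.apply_symm_apply i).symm
      rw [Equiv.Perm.mul_apply, Equiv.Perm.mul_apply, hi, ((hmemA a).1 ha).2, hgx]
      exact congrArg x (σ.apply_symm_apply i)
    let φ : A →* A :=
      { toFun := fun a => ⟨g * a.1 * g⁻¹, hgA a.1 a.2⟩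
        map_one' := Subtype.ext (by simp)
        map_mul' := fun a b => Subtype.ext (by simp [mul_assoc]) }
    have hφ : Function.Injective φ := fun a b hab => by
      have := congrArg Subtype.val hab
      exact Subtype.ext (mul_left_cancel (mul_right_cancel this))
    let T : Sylow r A := S0.mapSurjective (f := φ) (Finite.injective_iff_surjective.1 hφ)
    obtain ⟨a, ha⟩ := MulAction.exists_smul_eq A T S0
    refine ⟨a.1 * g, R.mul_mem ((hmemA _).1 a.2).1 hg, ?_, fun i => ?_⟩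
    · refine Subgroup.mem_normalizer_fintype ?_
      rintro _ ⟨s, hs, rfl⟩
      refine ⟨a * φ s * a⁻¹, ?_, ?_⟩
      · rw [← ha, Sylow.coe_subgroup_smul]
        refine Subgroup.mem_pointwise_smul_iff_inv_smul_mem.2 ?_
        have : φ s ∈ (T : Subgroup A) := ⟨s, hs, rfl⟩
        simpa [MulAut.smul_def, MulAut.conj_inv_apply, mul_assoc] using this
      · show a.1 * (g * s.1 * g⁻¹) * a.1⁻¹ = a.1 * g * s.1 * (a.1 * g)⁻¹
        group
    · rw [Equiv.Perm.mul_apply, hgx, Function.comp_apply]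
      exact ((hmemA _).1 a.2).2 _
  · intro o ho
    by_contra hn
    simp only [not_exists, not_and] at hn
    have hdis : ((Finset.univ : Finset (Fin (t + 1))) : Set (Fin (t + 1))).PairwiseDisjoint
        (fun i => Finset.univ.filter fun o' => Rel S (o i) o') := by
      intro i _ j _ hij
      rw [Function.onFun, Finset.disjoint_left]
      intro o' h1 h2
      simp only [Finset.mem_filter, Finset.mem_univ, true_and] at h1 h2
      exact hn i j hij ((rel_equivalence S).trans h1 ((rel_equivalence S).symm h2))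
    have hle : ((Finset.univ : Finset (Fin (t + 1))).biUnion
        fun i => Finset.univ.filter fun o' => Rel S (o i) o').card ≤ t * r := by
      rw [← hrest, ← Set.ncard_coe_finset]
      refine Set.ncard_le_ncard (fun o' ho' => ?_) (Set.toFinite _)
      simp only [Finset.coe_biUnion, Finset.coe_univ, Set.mem_univ, Set.iUnion_true,
        Set.mem_iUnion, Finset.coe_filter, Finset.mem_univ, true_and, Set.mem_setOf_eq] at ho'
      obtain ⟨i, s, hs, rfl⟩ := ho'
      rintro ⟨l, hl⟩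
      exact ho i ⟨l, s.injective ((hSfix s hs l).trans hl)⟩
    rw [Finset.card_biUnion hdis, Finset.sum_congr rfl (fun i _ => horbit (o i) (ho i)),
      Finset.sum_const, Finset.card_univ, Fintype.card_fin, smul_eq_mul, Nat.succ_mul] at hle
    have := hr.pos
    omega

namespace Frame

variable {k r t : ℕ} {x : Fin k → α} (F : Frame R x r t)
include F

theorem not_range {o o' : α} (h : Rel F.S o o') (ho : o ∉ Set.range x) : o' ∉ Set.range x := by
  obtain ⟨s, hs, rfl⟩ := h
  rintro ⟨i, hi⟩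
  exact ho ⟨i, s.injective ((F.fix s hs i).trans hi)⟩

theorem agree {o o' : α} (h : Rel F.S o o') {s u : Equiv.Perm α} (hs : s ∈ F.S) (hu : u ∈ F.S)
    (he : s o = u o) : s o' = u o' := by
  obtain ⟨w, hw, rfl⟩ := h
  rw [F.comm s hs w hw, F.comm u hu w hw, he]

theorem agree_pow {o : α} {s u : Equiv.Perm α} (hs : s ∈ F.S) (hu : u ∈ F.S) (he : s o = u o)
    (m : ℕ) : (s ^ m) o = (u ^ m) o := by
  induction m with
  | zero => rfl
  | succ m ih =>
    rw [pow_succ, pow_succ, Equiv.Perm.mul_apply, Equiv.Perm.mul_apply, he,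
      F.comm _ (pow_mem hs m) u hu, ih, F.comm _ (pow_mem hu m) u hu]

theorem pow_cast (hr : r.Prime) {o : α} {s : Equiv.Perm α} (hs : s ∈ F.S) (hso : s o ≠ o) {a b : ℕ} :
    (s ^ a) o = (s ^ b) o ↔ (a : ZMod r) = b := by
  have hmod : ∀ a : ℕ, s ^ a = s ^ (a % r) := fun a =>
    pow_eq_pow_mod a (F.pow s hs)
  constructor
  · intro h
    wlog hle : a ≤ b generalizing a b
    · exact (this h.symm (Nat.le_of_not_le hle)).symm
    have h1 : s ^ (b - a) ∈ MulAction.stabilizer (Equiv.Perm α) o := by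
      rw [MulAction.mem_stabilizer_iff, Equiv.Perm.smul_def]
      apply (s ^ a).injective
      rw [← Equiv.Perm.mul_apply, ← pow_add, Nat.add_sub_cancel' hle]
      exact h.symm
    rw [ZMod.natCast_eq_natCast_iff, Nat.modEq_iff_dvd' hle]
    by_contra hd
    have h2 : s ^ r ∈ MulAction.stabilizer (Equiv.Perm α) o := by
      rw [F.pow s hs]; exact Subgroup.one_mem _
    have hg : s ^ Nat.gcd (b - a) r ∈ MulAction.stabilizer (Equiv.Perm α) o := by
      rw [← zpow_natCast, Nat.gcd_eq_gcd_ab, zpow_add, zpow_mul, zpow_mul, zpow_natCast,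
        zpow_natCast]
      exact Subgroup.mul_mem _ (Subgroup.zpow_mem _ h1 _) (Subgroup.zpow_mem _ h2 _)
    rw [show Nat.gcd (b - a) r = 1 from (hr.coprime_iff_not_dvd.2 hd).symm, pow_one] at hg
    exact hso hg
  · intro h
    rw [ZMod.natCast_eq_natCast_iff'] at h
    rw [hmod a, hmod b, h]

/-- the group of elements of `R` normalizing the frame -/
def N : Subgroup (Equiv.Perm α) :=
  R ⊓ Subgroup.normalizer (F.S : Set (Equiv.Perm α))

theorem conj_mem {n s : Equiv.Perm α} (hn : n ∈ F.N) (hs : s ∈ F.S) : n * s * n⁻¹ ∈ F.S :=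
  (Subgroup.mem_normalizer_iff.1 (Subgroup.mem_inf.1 hn).2 s).1 hs

theorem rel_conj {n : Equiv.Perm α} (hn : n ∈ F.N) {o o' : α} (h : Rel F.S o o') :
    Rel F.S (n o) (n o') := by
  obtain ⟨s, hs, rfl⟩ := h
  exact ⟨n * s * n⁻¹, F.conj_mem hn hs, by simp [Equiv.Perm.mul_apply]⟩

theorem rel_inv {n : Equiv.Perm α} (hn : n ∈ F.N) {o : α} (h : Rel F.S (n o) o) :
    Rel F.S o (n⁻¹ o) := by
  have := F.rel_conj (F.N.inv_mem hn) h
  rwa [show n⁻¹ (n o) = o from n.symm_apply_apply o] at this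

/-- the multiplier on one orbit -/
theorem exists_mult (hr : r.Prime) {n : Equiv.Perm α} (hn : n ∈ F.N) {o : α}
    (ho : o ∉ Set.range x) (h : Rel F.S (n o) o) :
    ∃ j : ℕ, ∀ u ∈ F.S, (n * u * n⁻¹) o = (u ^ j) o := by
  obtain ⟨s, hs, hso⟩ := F.move o ho
  obtain ⟨j, hj⟩ := F.cyc o s hs hso _ (F.conj_mem hn hs)
  refine ⟨j, fun u hu => ?_⟩
  obtain ⟨m, hm⟩ := F.cyc o s hs hso u hu
  have h1 : u (n⁻¹ o) = (s ^ m) (n⁻¹ o) :=
    F.agree (F.rel_inv hn h) hu (pow_mem hs m) hm
  calc (n * u * n⁻¹) o = ((n * s * n⁻¹) ^ m) o := by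
        rw [conj_pow, Equiv.Perm.mul_apply, Equiv.Perm.mul_apply, Equiv.Perm.mul_apply,
          Equiv.Perm.mul_apply, h1]
    _ = ((s ^ j) ^ m) o := F.agree_pow (F.conj_mem hn hs) (pow_mem hs j) hj m
    _ = ((s ^ m) ^ j) o := by rw [← pow_mul, ← pow_mul, mul_comm]
    _ = (u ^ j) o := (F.agree_pow hu (pow_mem hs m) hm j).symm

theorem fixes_of_translation {n : Equiv.Perm α} {o : α} {s : Equiv.Perm α} (hs : s ∈ F.S)
    (hc : ∀ w, Rel F.S o w → (n * s * n⁻¹) w = s w) (ho : n o = s o) (i : ℕ) :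
    (n ^ i) o = (s ^ i) o := by
  induction i with
  | zero => rfl
  | succ i ih =>
    rw [pow_succ', Equiv.Perm.mul_apply, ih]
    clear ih
    induction i with
    | zero => simpa using ho
    | succ i ih =>
      rw [pow_succ', pow_succ' s (i + 1), Equiv.Perm.mul_apply, Equiv.Perm.mul_apply, ← ih]
      have h := hc (n ((s ^ i) o)) (by rw [ih]; exact ⟨_, pow_mem hs _, rfl⟩)
      rw [Equiv.Perm.mul_apply, Equiv.Perm.mul_apply] at h
      rw [show n⁻¹ (n ((s ^ i) o)) = (s ^ i) o from n.symm_apply_apply _] at h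
      exact h

end Frame

end Cfsg.Agent.PrimeDegreeHalf
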