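import Mathlib

/-!
The triple system `{a, a + d, a + λ d}` (`d` a square, `λ ^ 2 - λ + 1 = 0`) on `ZMod p`,
`p ≡ 3 (mod 4)`, has no automorphism fixing `0, 1` and sending `-1` to `-λ`.
-/

set_option autoImplicit false

namespace Cfsg.Agent.PrimeDegreeHalf

variable {p : ℕ} [hp : Fact p.Prime]

theorem small_ne_zero {n : ℕ} (hn : 0 < n) (hlt : n < p) : (n : ZMod p) ≠ 0 := fun h =>
  absurd (Nat.le_of_dvd hn ((ZMod.natCast_eq_zero_iff n p).1 h)) (not_le.2 hlt)

theorem not_isSquare_neg (h3 : p % 4 = 3) {x : ZMod p} (hx : x ≠ 0) (hs : IsSquare x) :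
    ¬ IsSquare (-x) := fun hn => by
  have h := hn.div hs
  rw [neg_div, div_self hx] at h
  exact (ZMod.exists_sq_eq_neg_one_iff.1 h) h3

theorem isSquare_neg (h3 : p % 4 = 3) {x : ZMod p} (hs : ¬ IsSquare x) : IsSquare (-x) := by
  have hx : x ≠ 0 := fun e => hs (e ▸ IsSquare.zero)
  by_contra hn
  have hcard : Fintype.card (ZMod p) = p := ZMod.card p
  have hchar : ringChar (ZMod p) ≠ 2 := by
    rw [ZMod.ringChar_zmod_n]; omega
  have h1 : x ^ (Fintype.card (ZMod p) / 2) = -1 :=
    (FiniteField.pow_dichotomy hchar hx).resolve_left fun e =>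
      hs ((FiniteField.isSquare_iff hchar hx).2 e)
  refine hn ((FiniteField.isSquare_iff hchar (neg_ne_zero.2 hx)).2 ?_)
  have hodd : Odd (Fintype.card (ZMod p) / 2) := by
    rw [hcard, Nat.odd_iff]; omega
  rw [hodd.neg_pow, h1, neg_neg]

theorem isSquare_mul_of_not (h3 : p % 4 = 3) {x y : ZMod p} (hx : ¬ IsSquare x)
    (hy : ¬ IsSquare y) : IsSquare (x * y) := by
  have := (isSquare_neg h3 hx).mul (isSquare_neg h3 hy)
  rwa [neg_mul_neg] at this

theorem not_isSquare_mul (h3 : p % 4 = 3) {x y : ZMod p} (hx : x ≠ 0) (hxs : IsSquare x)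
    (hy : ¬ IsSquare y) : ¬ IsSquare (x * y) := fun h => by
  have := h.div hxs
  rw [mul_div_cancel_left₀ y hx] at this
  exact hy this

/-- the third point -/
def Third (lam : ZMod p) (T : ZMod p → ZMod p → ZMod p) : Prop :=
  ∀ a b : ZMod p, a ≠ b → (IsSquare (b - a) → T a b = a + lam * (b - a)) ∧
    (¬ IsSquare (b - a) → T a b = a + (1 - lam) * (b - a))

variable {lam : ZMod p}

theorem quad_ne (hq : lam ^ 2 - lam + 1 = 0) (h7 : 7 < p) :
    lam ≠ 2 ∧ lam ≠ 3 ∧ 2 * lam ≠ 3 ∧ lam ≠ -1 ∧ 2 * lam ≠ 1 := by
  have e3 : (3 : ZMod p) ≠ 0 := by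
    exact_mod_cast small_ne_zero (p := p) (n := 3) (by norm_num) (by omega)
  have e7 : (7 : ZMod p) ≠ 0 := by
    exact_mod_cast small_ne_zero (p := p) (n := 7) (by norm_num) h7
  refine ⟨fun h => e3 ?_, fun h => e7 ?_, fun h => e7 ?_, fun h => e3 ?_, fun h => e3 ?_⟩
  · rw [h] at hq; linear_combination hq
  · rw [h] at hq; linear_combination hq
  · linear_combination 4 * hq - (2 * lam + 1) * h
  · rw [h] at hq; linear_combination hq
  · linear_combination 4 * hq - (2 * lam - 1) * h

/-- no automorphism fixing `0, 1` maps `-1` to `-λ` -/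
theorem netto_no_auto (h3 : p % 4 = 3) (h7 : 7 < p) (hq : lam ^ 2 - lam + 1 = 0)
    (hlam : ¬ IsSquare lam) {T : ZMod p → ZMod p → ZMod p} (hT : Third lam T)
    {g : ZMod p → ZMod p} (hginj : Function.Injective g)
    (hgT : ∀ a b, a ≠ b → g (T a b) = T (g a) (g b))
    (hg0 : g 0 = 0) (hg1 : g 1 = 1) (hgd : g (-1) = -lam) : False := by
  obtain ⟨n2, n3, n23, n1, n21⟩ := quad_ne hq h7
  have e2 : (2 : ZMod p) ≠ 0 := by
    exact_mod_cast small_ne_zero (p := p) (n := 2) (by norm_num) (by omega)
  have e1 : (1 : ZMod p) ≠ 0 := one_ne_zero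
  have hl0 : lam ≠ 0 := fun e => by rw [e] at hq; exact e1 (by linear_combination hq)
  have hm1 : ¬ IsSquare (-1 : ZMod p) := not_isSquare_neg h3 e1 IsSquare.one
  have hnl : IsSquare (-lam) := isSquare_neg h3 hlam
  have hone_sub : ¬ IsSquare (1 - lam) := by
    have h : (1 - lam) = -(lam * lam) := by linear_combination hq
    rw [h]
    exact not_isSquare_neg h3 (mul_ne_zero hl0 hl0) (IsSquare.mul_self lam)
  have hT1 := fun a b hab hs => (hT a b hab).1 hs
  have hT2 := fun a b hab hs => (hT a b hab).2 hs
  -- common values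
  have hx : T 0 1 = lam := by
    rw [hT1 0 1 zero_ne_one (by rw [sub_zero]; exact IsSquare.one)]; ring
  have hy1 : T 0 (-1) = lam - 1 := by
    rw [hT2 0 (-1) (fun h => e1 (by linear_combination h)) (by rw [sub_zero]; exact hm1)]; ring
  have hy2 : T 0 (-lam) = 1 - lam := by
    rw [hT1 0 (-lam) (fun h => hl0 (by linear_combination h)) (by rw [sub_zero]; exact hnl)]
    linear_combination -hq
  have hxy1 : T lam (lam - 1) = 2 * lam - 1 := by
    rw [hT2 lam (lam - 1) (fun h => e1 (by linear_combination h))
      (by rw [show lam - 1 - lam = -1 by ring]; exact hm1)]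
    ring
  -- transport
  have hgx : g (T 0 1) = T 0 1 := by rw [hgT 0 1 zero_ne_one, hg0, hg1]
  have hgy : g (T 0 (-1)) = T 0 (-lam) := by
    rw [hgT 0 (-1) (fun h => e1 (by linear_combination h)), hg0, hgd]
  have hgz : g (T 1 (-1)) = T 1 (-lam) := by
    rw [hgT 1 (-1) (fun h => e2 (by linear_combination h)), hg1, hgd]
  have hne_xy : T 0 1 ≠ T 0 (-1) := fun h => e1 (by rw [hx, hy1] at h; linear_combination h)
  have hgxy : g (T (T 0 1) (T 0 (-1))) = T (T 0 1) (T 0 (-lam)) := by
    rw [hgT _ _ hne_xy, hgx, hgy]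
  rw [hx, hy1, hxy1, hy2] at hgxy
  by_cases h2 : IsSquare (2 : ZMod p)
  · -- Pasch configuration at `-1`, none at `-λ`
    have hz : T 1 (-1) = 2 * lam - 1 := by
      rw [hT2 1 (-1) (fun h => e2 (by linear_combination h))
        (by rw [show (-1 : ZMod p) - 1 = -2 by ring]; exact not_isSquare_neg h3 e2 h2)]
      ring
    rw [hz, hgxy] at hgz
    rw [hy1, hy2] at hgy
    have a0 : lam ≠ 1 - lam := fun h => n21 (by linear_combination h)
    have b0 : (1 : ZMod p) ≠ -lam := fun h => n1 (by linear_combination h)
    have hl : T lam (1 - lam) = 2 ∨ T lam (1 - lam) = -1 := by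
      rcases em (IsSquare (1 - lam - lam)) with h | h
      · left; rw [hT1 _ _ a0 h]; linear_combination (-2) * hq
      · right; rw [hT2 _ _ a0 h]; linear_combination 2 * hq
    have hr : T 1 (-lam) = 2 - 2 * lam ∨ T 1 (-lam) = lam - 1 := by
      rcases em (IsSquare (-lam - 1)) with h | h
      · left; rw [hT1 _ _ b0 h]; linear_combination -hq
      · right; rw [hT2 _ _ b0 h]; linear_combination hq
    rcases hl with hl | hl <;> rcases hr with hr | hr <;> rw [hl, hr] at hgz
    · exact hl0 ((mul_eq_zero.1 (show 2 * lam = 0 by linear_combination hgz)).resolve_left e2)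
    · exact n3 (by linear_combination -hgz)
    · exact n23 (by linear_combination hgz)
    · exact hl0 (by linear_combination -hgz)
  · -- the second configuration: false at `-1`, true at `-λ`
    have hn2 : IsSquare (-2 : ZMod p) := isSquare_neg h3 h2
    have hz : T 1 (-1) = 1 - 2 * lam := by
      rw [hT1 1 (-1) (fun h => e2 (by linear_combination h))
        (by rw [show (-1 : ZMod p) - 1 = -2 by ring]; exact hn2)]
      ring
    have hne_yz : T 0 (-1) ≠ T 1 (-1) := fun h => by
      rw [hy1, hz] at h
      exact n23 (by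
        have h3l : 3 * lam = 2 := by linear_combination h
        exact absurd (show (7 : ZMod p) = 0 by
          linear_combination 9 * hq - (3 * lam - 1) * h3l) (by
            exact_mod_cast small_ne_zero (p := p) (n := 7) (by norm_num) h7))
    have hgyz : g (T (T 0 (-1)) (T 1 (-1))) = T (T 0 (-lam)) (T 1 (-lam)) := by
      rw [hgT _ _ hne_yz, hgy, hgz]
    rw [hy1, hz, hy2] at hgyz
    set w := T (lam - 1) (1 - 2 * lam) with hw
    have c0 : lam - 1 ≠ 1 - 2 * lam := by rw [← hy1, ← hz]; exact hne_yz
    have hw2 : w = 2 ∨ w = -2 - lam := by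
      rcases em (IsSquare (1 - 2 * lam - (lam - 1))) with h | h
      · left; rw [hw, hT1 _ _ c0 h]; linear_combination (-3) * hq
      · right; rw [hw, hT2 _ _ c0 h]; linear_combination 3 * hq
    have hu_ne : (2 * lam - 1) ≠ w := by
      rcases hw2 with e | e <;> rw [e] <;> intro h
      · exact n23 (by linear_combination h)
      · have h31 : 3 * lam = -1 := by linear_combination h
        exact absurd (show (13 : ZMod p) = 0 by
          linear_combination 9 * hq - (3 * lam - 4) * h31) (fun h13 => by
          have h13' : ((13 : ℕ) : ZMod p) = 0 := by exact_mod_cast h13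
          have hd := (ZMod.natCast_eq_zero_iff 13 p).1 h13'
          have : p = 13 := (Nat.prime_dvd_prime_iff_eq hp.out (by norm_num)).1 hd
          omega)
    -- the configuration fails at `-1`
    have hfalse : T (2 * lam - 1) w ≠ 1 := by
      intro h
      by_cases hs : IsSquare (w - (2 * lam - 1))
      · rw [hT1 _ _ hu_ne hs] at h
        have : w = 2 * lam - 1 + 2 * (1 - lam) * (1 - lam) := by
          linear_combination (1 - lam) * h + (w - (2 * lam - 1)) * hq
        rw [show 2 * lam - 1 + 2 * (1 - lam) * (1 - lam) = -1 by linear_combination 2 * hq] at this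
        rcases hw2 with e | e <;> rw [e] at this
        · exact absurd (show (3 : ZMod p) = 0 by linear_combination this)
            (by exact_mod_cast small_ne_zero (p := p) (n := 3) (by norm_num) (by omega))
        · exact n1 (by linear_combination -this)
      · rw [hT2 _ _ hu_ne hs] at h
        have : w = 2 * lam - 1 + lam * (2 - 2 * lam) := by
          linear_combination lam * h + (w - (2 * lam - 1)) * hq
        rw [show 2 * lam - 1 + lam * (2 - 2 * lam) = 2 * lam + 1 by linear_combination (-2) * hq]
          at this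
        rcases hw2 with e | e <;> rw [e] at this
        · exact n21 (by linear_combination -this)
        · exact n1 (by
            have e3 : (3 : ZMod p) ≠ 0 := by
              exact_mod_cast small_ne_zero (p := p) (n := 3) (by norm_num) (by omega)
            exact mul_left_cancel₀ e3 (by linear_combination -this))
    have htrans := hgT _ _ hu_ne
    rw [hgxy, hgyz] at htrans
    apply hfalse
    apply hginj
    rw [htrans, hg1]
    -- the configuration holds at `-λ`
    have hs_eq : 1 - lam - lam = -lam * (1 + lam) := by linear_combination hq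
    have hl2 : (-lam) ≠ 0 := neg_ne_zero.2 hl0
    have hlp : (1 : ZMod p) + lam ≠ 0 := fun h => n1 (by linear_combination h)
    have a0 : lam ≠ 1 - lam := fun h => n21 (by linear_combination h)
    have b0 : (1 : ZMod p) ≠ -lam := fun h => n1 (by linear_combination h)
    by_cases hε : IsSquare (1 + lam)
    · have hl : T lam (1 - lam) = 2 := by
        rw [hT1 _ _ a0 (hs_eq ▸ hnl.mul hε)]; linear_combination (-2) * hq
      have hr : T 1 (-lam) = lam - 1 := by
        rw [hT2 _ _ b0 (by rw [show -lam - 1 = -(1 + lam) by ring]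
                           exact not_isSquare_neg h3 hlp hε)]
        linear_combination hq
      have hr2 : T (1 - lam) (lam - 1) = 1 + lam := by
        have hne : 1 - lam ≠ lam - 1 := fun h => hone_sub (by
          rw [show 1 - lam = 0 from (mul_eq_zero.1
            (show 2 * (1 - lam) = 0 by linear_combination h)).resolve_left e2]
          exact IsSquare.zero)
        rw [hT2 _ _ hne (by rw [show lam - 1 - (1 - lam) = 2 * (lam * lam) by linear_combination (-2) * hq,
              mul_comm]
                            exact not_isSquare_mul h3 (mul_ne_zero hl0 hl0) (IsSquare.mul_self lam) h2)]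
        linear_combination (-2) * hq
      have hne : (2 : ZMod p) ≠ 1 + lam := fun h => hone_sub (by
        rw [show 1 - lam = 0 by linear_combination h]; exact IsSquare.zero)
      rw [hl, hr, hr2, hT1 _ _ hne (by
        rw [show 1 + lam - 2 = lam * lam by linear_combination -hq]; exact IsSquare.mul_self lam)]
      linear_combination hq
    · have hl : T lam (1 - lam) = -1 := by
        rw [hT2 _ _ a0 (hs_eq ▸ not_isSquare_mul h3 hl2 hnl hε)]; linear_combination 2 * hq
      have hr : T 1 (-lam) = 2 - 2 * lam := by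
        rw [hT1 _ _ b0 (by rw [show -lam - 1 = -(1 + lam) by ring]; exact isSquare_neg h3 hε)]
        linear_combination -hq
      have hr2 : T (1 - lam) (2 - 2 * lam) = 1 - 2 * lam := by
        have hne : 1 - lam ≠ 2 - 2 * lam := fun h => hone_sub (by
          rw [show 1 - lam = 0 by linear_combination -h]; exact IsSquare.zero)
        rw [hT2 _ _ hne (by rw [show 2 - 2 * lam - (1 - lam) = 1 - lam by ring]; exact hone_sub)]
        linear_combination hq
      have hne : (-1 : ZMod p) ≠ 1 - 2 * lam := fun h => hone_sub (by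
        rw [show 1 - lam = 0 from (mul_eq_zero.1
          (show 2 * (1 - lam) = 0 by linear_combination -h)).resolve_left e2]
        exact IsSquare.zero)
      rw [hl, hr, hr2, hT1 _ _ hne (by
        rw [show 1 - 2 * lam - -1 = 2 * (1 - lam) by ring]; exact isSquare_mul_of_not h3 h2 hone_sub)]
      linear_combination (-2) * hq

end Cfsg.Agent.PrimeDegreeHalf
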