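import Cfsg.Agent.PrimeDegreeHalf.Orbits
import Cfsg.Agent.PrimeDegreeHalf.Netto

/-!
A block system of a point stabilizer gives a linear space on the points; linearity in the
coordinates makes it a triple system, which has too few automorphisms.
-/

set_option autoImplicit false

namespace Cfsg.Agent.PrimeDegreeHalf

variable {p : ℕ} [hp : Fact p.Prime] {α : Type*} [Fintype α] [DecidableEq α]
  {G : Subgroup (Equiv.Perm α)}

/-- a nontrivial block `B ∋ b` of the stabilizer of `a` -/
structure BlockData (G : Subgroup (Equiv.Perm α)) (a b : α) (B : Finset α) : Prop where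
  a_not : a ∉ B
  b_mem : b ∈ B
  big : ∃ z ∈ B, z ≠ b
  out : ∃ r, r ∉ B ∧ r ≠ a
  block : ∀ g ∈ G, g a = a → ∀ x ∈ B, g x ∈ B → ∀ y ∈ B, g y ∈ B

variable {a b : α} {B : Finset α}

/-- the line relation -/
def Col (G : Subgroup (Equiv.Perm α)) (a b : α) (B : Finset α) (a' b' x : α) : Prop :=
  ∃ g ∈ G, g a = a' ∧ g b = b' ∧ ∃ z ∈ B, z ≠ b ∧ g z = x

theorem BlockData.ab (D : BlockData G a b B) : a ≠ b := fun e => D.a_not (e ▸ D.b_mem)

theorem inv_apply_of {g : Equiv.Perm α} {x y : α} (h : g x = y) : g⁻¹ y = x :=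
  Equiv.Perm.inv_eq_iff_eq.2 h.symm

theorem BlockData.stable (D : BlockData G a b B) {g : Equiv.Perm α} (hg : g ∈ G) (ha : g a = a)
    (hb : g b = b) {x : α} : g x ∈ B ↔ x ∈ B := by
  refine ⟨fun h => ?_, fun h => D.block g hg ha b D.b_mem (hb.symm ▸ D.b_mem) x h⟩
  have := D.block g⁻¹ (G.inv_mem hg) (inv_apply_of ha) b D.b_mem
    ((inv_apply_of hb).symm ▸ D.b_mem) (g x) h
  rwa [inv_apply_of rfl] at this

theorem BlockData.orbit (D : BlockData G a b B) (C : Ctx p G) (h3 : p % 4 = 3) {x y : α}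
    (hxa : x ≠ a) (hya : y ≠ a) (hxb : x ≠ b) (hyb : y ≠ b) (hxy : x ∈ B ↔ y ∈ B) :
    Fix2 G a b x y := by
  classical
  by_contra hn
  obtain ⟨z, hz, hzb⟩ := D.big
  obtain ⟨r, hr, hra⟩ := D.out
  have hrb : r ≠ b := fun e => hr (e ▸ D.b_mem)
  obtain ⟨w, hwa, hwb, hwB⟩ : ∃ w, w ≠ a ∧ w ≠ b ∧ ¬ (w ∈ B ↔ x ∈ B) := by
    by_cases hx : x ∈ B
    · exact ⟨r, hra, hrb, by simp [hr, hx]⟩
    · exact ⟨z, fun e => D.a_not (e ▸ hz), hzb, by simp [hz, hx]⟩
  haveI := Fintype.ofFinite (Quotient (fix2Setoid G a b))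
  have hle := C.card_orbits_le h3 (fun x hx => isSquare_neg h3 hx) a b D.ab
  rw [Nat.card_eq_fintype_card] at hle
  let f : Fin 5 → Quotient (fix2Setoid G a b) := fun i => Quotient.mk _ (![a, b, x, y, w] i)
  have hrel : ∀ u v : α, (Quotient.mk (fix2Setoid G a b) u = Quotient.mk _ v) →
      Fix2 G a b u v := fun u v h => Quotient.exact h
  have ha1 : ∀ v, Fix2 G a b a v → v = a := fun v ⟨g, _, h1, _, h2⟩ => h2.symm.trans h1
  have hb1 : ∀ v, Fix2 G a b b v → v = b := fun v ⟨g, _, _, h1, h2⟩ => h2.symm.trans h1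
  have hB : ∀ u v, Fix2 G a b u v → (v ∈ B ↔ u ∈ B) := fun u v ⟨g, hg, h1, h2, h⟩ =>
    h ▸ D.stable hg h1 h2
  have hxw : ¬ Fix2 G a b x w := fun h => hwB (hB _ _ h)
  have hyw : ¬ Fix2 G a b y w := fun h => hwB ((hB _ _ h).trans hxy.symm)
  have hsym := fun {u v} (h : Fix2 G a b u v) => (fix2_equivalence a b).symm h
  have hf : Function.Injective f := by
    intro i j h
    have h' := hrel _ _ h
    fin_cases i <;> fin_cases j <;> first
      | rfl
      | exact absurd (ha1 _ h') (by first | exact D.ab.symm | exact hxa | exact hya | exact hwa)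
      | exact absurd (ha1 _ (hsym h')) (by first | exact D.ab.symm | exact hxa | exact hya | exact hwa)
      | exact absurd (hb1 _ h') (by first | exact hxb | exact hyb | exact hwb)
      | exact absurd (hb1 _ (hsym h')) (by first | exact hxb | exact hyb | exact hwb)
      | exact absurd h' hn
      | exact absurd (hsym h') hn
      | exact absurd h' hxw
      | exact absurd (hsym h') hxw
      | exact absurd h' hyw
      | exact absurd (hsym h') hyw
  have := Fintype.card_le_of_injective f hf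
  simp at this
  omega

theorem BlockData.swap (D : BlockData G a b B) (C : Ctx p G) (h3 : p % 4 = 3) {s : Equiv.Perm α}
    (hs : s ∈ G) (hsa : s a = b) (hsb : s b = a) {x : α} (hx : x ∈ B) (hxb : x ≠ b) :
    s x ∈ B ∧ s x ≠ b := by
  classical
  have hxa : x ≠ a := fun e => D.a_not (e ▸ hx)
  have hne : ∀ y, y ≠ a → y ≠ b → s y ≠ a ∧ s y ≠ b := fun y hya hyb =>
    ⟨fun e => hyb (s.injective (e.trans hsb.symm)), fun e => hya (s.injective (e.trans hsa.symm))⟩
  refine ⟨?_, (hne x hxa hxb).2⟩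
  by_contra hout
  -- then `s` interchanges the two long orbits
  have hmove : ∀ y, y ≠ a → y ≠ b → (s y ∈ B ↔ y ∉ B) := by
    have hB : ∀ y, y ∈ B → y ≠ b → s y ∉ B := by
      intro y hy hyb hsy
      obtain ⟨u, hu, hua, hub, huy⟩ :=
        D.orbit C h3 hxa (fun e => D.a_not (e ▸ hy)) hxb hyb (iff_of_true hx hy)
      have h1 : (s * u * s⁻¹) (s x) = s y := by
        rw [Equiv.Perm.mul_apply, Equiv.Perm.mul_apply, inv_apply_of rfl, huy]
      have h2 := D.stable (g := s * u * s⁻¹) (x := s x) (G.mul_mem (G.mul_mem hs hu) (G.inv_mem hs))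
        (by rw [Equiv.Perm.mul_apply, Equiv.Perm.mul_apply, inv_apply_of hsb, hub, hsb])
        (by rw [Equiv.Perm.mul_apply, Equiv.Perm.mul_apply, inv_apply_of hsa, hua, hsa])
      rw [h1] at h2
      exact hout (h2.1 hsy)
    intro y hya hyb
    refine ⟨fun h hy => hB y hy hyb h, fun hy => ?_⟩
    by_contra hsy
    obtain ⟨u, hu, hua, hub, huy⟩ := D.orbit C h3 (hne x hxa hxb).1 (hne y hya hyb).1
      (hne x hxa hxb).2 (hne y hya hyb).2 (iff_of_false hout hsy)
    have h1 : (s⁻¹ * u * s) x = y := by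
      rw [Equiv.Perm.mul_apply, Equiv.Perm.mul_apply, huy, inv_apply_of rfl]
    have h2 := D.stable (g := s⁻¹ * u * s) (x := x) (G.mul_mem (G.mul_mem (G.inv_mem hs) hu) hs)
      (by rw [Equiv.Perm.mul_apply, Equiv.Perm.mul_apply, hsa, hub, inv_apply_of hsa])
      (by rw [Equiv.Perm.mul_apply, Equiv.Perm.mul_apply, hsb, hua, inv_apply_of hsb])
    rw [h1] at h2
    exact hy (h2.2 hx)
  set B1 := B.erase b with hB1
  set R := ((Finset.univ \ B).erase a) with hR
  have hdis : Disjoint B1 R := Finset.disjoint_left.2 fun y h1 h2 => by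
    simp [hB1, hR] at h1 h2; exact h2.2 h1.2
  have hcard : B1.card = R.card := by
    refine le_antisymm (Finset.card_le_card_of_injOn s ?_ s.injective.injOn)
      (Finset.card_le_card_of_injOn s ?_ s.injective.injOn)
    · intro y hy
      simp only [hB1, Finset.mem_coe, Finset.mem_erase] at hy
      have hya : y ≠ a := fun e => D.a_not (e ▸ hy.2)
      simp only [hR, Finset.mem_coe, Finset.mem_erase, Finset.mem_sdiff, Finset.mem_univ, true_and]
      exact ⟨(hne y hya hy.1).1, fun h => (hmove y hya hy.1).1 h hy.2⟩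
    · intro y hy
      simp only [hR, Finset.mem_coe, Finset.mem_erase, Finset.mem_sdiff, Finset.mem_univ, true_and] at hy
      have hyb : y ≠ b := fun e => hy.2 (e ▸ D.b_mem)
      simp only [hB1, Finset.mem_coe, Finset.mem_erase]
      exact ⟨(hne y hy.1 hyb).2, (hmove y hy.1 hyb).2 hy.2⟩
  have hsplit : Finset.univ = insert a (insert b (B1 ∪ R)) := by
    ext y
    simp [hB1, hR]
    tauto
  have h2 := congrArg Finset.card hsplit
  rw [Finset.card_univ, C.card, Finset.card_insert_of_notMem (by simp [hB1, hR, D.ab, D.a_not]),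
    Finset.card_insert_of_notMem (by simp [hB1, hR, D.b_mem]),
    Finset.card_union_of_disjoint hdis] at h2
  omega

namespace BlockData

variable (D : BlockData G a b B)
include D

theorem col_iff {g : Equiv.Perm α} (hg : g ∈ G) {a' b' x : α} (ha : g a = a') (hb : g b = b') :
    Col G a b B a' b' x ↔ g⁻¹ x ∈ B ∧ g⁻¹ x ≠ b := by
  refine ⟨?_, fun ⟨h1, h2⟩ => ⟨g, hg, ha, hb, _, h1, h2, g.apply_symm_apply x⟩⟩
  rintro ⟨h, hh, hha, hhb, z, hz, hzb, rfl⟩
  have hu : (g⁻¹ * h) ∈ G := G.mul_mem (G.inv_mem hg) hh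
  have hua : (g⁻¹ * h) a = a := by rw [Equiv.Perm.mul_apply, hha, inv_apply_of ha]
  have hub : (g⁻¹ * h) b = b := by rw [Equiv.Perm.mul_apply, hhb, inv_apply_of hb]
  refine ⟨(D.stable hu hua hub).2 hz, fun e => hzb ?_⟩
  exact (g⁻¹ * h).injective (e.trans hub.symm)

theorem col_ne {a' b' x : α} (h : Col G a b B a' b' x) : a' ≠ b' ∧ x ≠ a' ∧ x ≠ b' := by
  obtain ⟨g, hg, rfl, rfl, z, hz, hzb, rfl⟩ := h
  exact ⟨fun e => D.ab (g.injective e), fun e => D.a_not (g.injective e ▸ hz),
    fun e => hzb (g.injective e)⟩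

omit D in
theorem col_map {g : Equiv.Perm α} (hg : g ∈ G) {a' b' x : α} (h : Col G a b B a' b' x) :
    Col G a b B (g a') (g b') (g x) := by
  obtain ⟨f, hf, rfl, rfl, z, hz, hzb, rfl⟩ := h
  exact ⟨g * f, G.mul_mem hg hf, rfl, rfl, z, hz, hzb, rfl⟩

theorem col_swap (C : Ctx p G) (h3 : p % 4 = 3) {a' b' x : α} (h : Col G a b B a' b' x) :
    Col G a b B b' a' x := by
  obtain ⟨g, hg, rfl, rfl, z, hz, hzb, rfl⟩ := h
  obtain ⟨s, hs, hsa, hsb⟩ := C.two a b b a D.ab D.ab.symm
  obtain ⟨h1, h2⟩ := D.swap C h3 (G.inv_mem hs) (inv_apply_of hsb) (inv_apply_of hsa) hz hzb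
  refine ⟨g * s, G.mul_mem hg hs, by rw [Equiv.Perm.mul_apply, hsa],
    by rw [Equiv.Perm.mul_apply, hsb], _, h1, h2, ?_⟩
  rw [Equiv.Perm.mul_apply]
  exact congrArg g (s.apply_symm_apply z)

theorem col_trans (C : Ctx p G) {a' b' x y : α} (hx : Col G a b B a' b' x)
    (hy : y = b' ∨ Col G a b B a' b' y) (hxy : x ≠ y) : Col G a b B a' x y := by
  obtain ⟨g, hg, rfl, rfl, z, hz, hzb, rfl⟩ := hx
  obtain ⟨w, hw, hwy⟩ : ∃ w ∈ B, g w = y := by
    rcases hy with rfl | hy
    · exact ⟨b, D.b_mem, rfl⟩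
    · exact ⟨_, ((D.col_iff hg rfl rfl).1 hy).1, g.apply_symm_apply y⟩
  subst hwy
  have hza : z ≠ a := fun e => D.a_not (e ▸ hz)
  obtain ⟨h, hh, hha, hhb⟩ := C.two a b a z D.ab hza.symm
  refine ⟨g * h, G.mul_mem hg hh, by rw [Equiv.Perm.mul_apply, hha],
    by rw [Equiv.Perm.mul_apply, hhb], h⁻¹ w,
    D.block h⁻¹ (G.inv_mem hh) (inv_apply_of hha) z hz ((inv_apply_of hhb).symm ▸ D.b_mem) w hw,
    fun e => hxy ?_, by rw [Equiv.Perm.mul_apply]; exact congrArg g (h.apply_symm_apply w)⟩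
  have h1 : h (h⁻¹ w) = h b := congrArg h e
  rw [show h (h⁻¹ w) = w from h.apply_symm_apply w, hhb] at h1
  exact congrArg g h1.symm

end BlockData

open Classical in
/-- the line through two points -/
noncomputable def line (G : Subgroup (Equiv.Perm α)) (a b : α) (B : Finset α) (a' b' : α) :
    Finset α :=
  Finset.univ.filter fun x => x = a' ∨ x = b' ∨ Col G a b B a' b' x

theorem mem_line {a' b' x : α} :
    x ∈ line G a b B a' b' ↔ x = a' ∨ x = b' ∨ Col G a b B a' b' x := by simp [line]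

namespace BlockData

variable (D : BlockData G a b B)
include D

theorem line_swap (C : Ctx p G) (h3 : p % 4 = 3) (a' b' : α) :
    line G a b B a' b' = line G a b B b' a' := by
  ext x
  rw [mem_line, mem_line]
  exact ⟨fun h => h.elim (fun e => .inr (.inl e)) (fun h => h.elim .inl fun h => .inr (.inr (D.col_swap C h3 h))),
    fun h => h.elim (fun e => .inr (.inl e)) (fun h => h.elim .inl fun h => .inr (.inr (D.col_swap C h3 h)))⟩

theorem line_of_col (C : Ctx p G) {a' b' x : α} (hx : Col G a b B a' b' x) :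
    line G a b B a' x = line G a b B a' b' := by
  obtain ⟨hab', hxa, hxb⟩ := D.col_ne hx
  have hb : Col G a b B a' x b' := D.col_trans C hx (.inl rfl) hxb
  ext y
  rw [mem_line, mem_line]
  constructor
  · rintro (h | h | h)
    · exact .inl h
    · exact .inr (.inr (h ▸ hx))
    · by_cases hy : y = b'
      · exact .inr (.inl hy)
      · exact .inr (.inr (D.col_trans C hb (.inr h) (Ne.symm hy)))
  · rintro (h | h | h)
    · exact .inl h
    · exact .inr (.inr (h ▸ hb))
    · by_cases hy : y = x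
      · exact .inr (.inl hy)
      · exact .inr (.inr (D.col_trans C hx (.inr h) (Ne.symm hy)))

theorem line_of_mem (C : Ctx p G) (h3 : p % 4 = 3) {a' b' c d : α}
    (hc : c ∈ line G a b B a' b') (hd : d ∈ line G a b B a' b') (hcd : c ≠ d) :
    line G a b B c d = line G a b B a' b' := by
  -- lines through a fixed first point
  have key : ∀ a' b' d, d ∈ line G a b B a' b' → d ≠ a' →
      line G a b B a' d = line G a b B a' b' := by
    intro a' b' d hd hda
    rcases mem_line.1 hd with h | h | h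
    · exact absurd h hda
    · rw [h]
    · exact D.line_of_col C h
  by_cases hca : c = a'
  · exact hca.symm ▸ key _ _ d hd (fun e => hcd (hca.trans e.symm))
  · have h1 := key _ _ c hc hca
    rw [D.line_swap C h3] at h1
    rw [← h1] at hd ⊢
    exact key _ _ d hd (Ne.symm hcd)

omit D in
theorem line_map {g : Equiv.Perm α} (hg : g ∈ G) (a' b' : α) :
    line G a b B (g a') (g b') = (line G a b B a' b').image g := by
  ext x
  simp only [Finset.mem_image, mem_line]
  constructor
  · intro h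
    refine ⟨g⁻¹ x, ?_, g.apply_symm_apply x⟩
    rcases h with h | h | h
    · exact .inl (inv_apply_of h.symm)
    · exact .inr (.inl (inv_apply_of h.symm))
    · have := col_map (G.inv_mem hg) h
      rw [inv_apply_of rfl, inv_apply_of rfl] at this
      exact .inr (.inr this)
  · rintro ⟨y, h, rfl⟩
    rcases h with h | h | h
    · exact .inl (congrArg g h)
    · exact .inr (.inl (congrArg g h))
    · exact .inr (.inr (col_map hg h))

theorem card_line (C : Ctx p G) {a' b' : α} (h : a' ≠ b') :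
    (line G a b B a' b').card = B.card + 1 := by
  obtain ⟨g, hg, rfl, rfl⟩ := C.two a b a' b' D.ab h
  rw [line_map hg, Finset.card_image_of_injective _ g.injective]
  have hl : line G a b B a b = insert a B := by
    ext x
    rw [mem_line, D.col_iff (a' := a) (b' := b) G.one_mem rfl rfl, Finset.mem_insert]
    simp only [inv_one, Equiv.Perm.one_apply]
    constructor
    · rintro (h | h | h)
      · exact .inl h
      · exact .inr (h ▸ D.b_mem)
      · exact .inr h.1
    · rintro (h | h)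
      · exact .inl h
      · exact (em (x = b)).elim (fun e => .inr (.inl e)) fun e => .inr (.inr ⟨h, e⟩)
  rw [hl, Finset.card_insert_of_notMem D.a_not]

theorem card_B (C : Ctx p G) (h3 : p % 4 = 3) : B.card = 2 := by
  classical
  obtain ⟨z, hz, hzb⟩ := D.big
  have h2 : 2 ≤ B.card := Finset.one_lt_card.2 ⟨z, hz, b, D.b_mem, hzb⟩
  by_contra hne
  have hcard : 4 ≤ (line G a b B a b).card := by rw [D.card_line C D.ab]; omega
  set Ln := line G a b B a b with hLn
  let S : ZMod p → ZMod p → ZMod p := fun i j =>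
    ∑ x ∈ line G a b B (C.e i) (C.e j), (C.e.symm x - i)
  have hS : ∀ q : ZMod p, IsSquare q → q ≠ 0 → ∀ i d, S i (i + q * d) = q * S 0 d := by
    intro q hq hq0 i d
    obtain ⟨v, hv, hve⟩ := C.mul q hq hq0
    obtain ⟨t, ht, hte⟩ := C.shift i
    have h0 : (t * v) (C.e 0) = C.e i := by
      rw [Equiv.Perm.mul_apply, hve, mul_zero, hte, zero_add]
    have hd : (t * v) (C.e d) = C.e (i + q * d) := by
      rw [Equiv.Perm.mul_apply, hve, hte, add_comm]
    show ∑ x ∈ line G a b B (C.e i) (C.e (i + q * d)), (C.e.symm x - i) = _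
    rw [← h0, ← hd, line_map (G.mul_mem ht hv), Finset.sum_image (t * v).injective.injOn,
      Finset.mul_sum]
    refine Finset.sum_congr rfl fun x _ => ?_
    conv_lhs => rw [← Equiv.apply_symm_apply C.e x, Equiv.Perm.mul_apply, hve, hte,
      Equiv.symm_apply_apply]
    ring
  have hmean : ∀ i, C.e i ∈ Ln → ∑ x ∈ Ln, (C.e.symm x - i) = 0 := by
    intro i hi
    have h3' : 3 ≤ (Ln.erase (C.e i)).card := by rw [Finset.card_erase_of_mem hi]; omega
    obtain ⟨s, hs, hsc⟩ := Finset.exists_subset_card_eq h3'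
    obtain ⟨u, v, w, huv, huw, hvw, rfl⟩ := Finset.card_eq_three.1 hsc
    obtain ⟨x, y, hxy, hx, hy, hcl⟩ : ∃ x y, x ≠ y ∧ x ∈ ({u, v, w} : Finset α) ∧
        y ∈ ({u, v, w} : Finset α) ∧
        (IsSquare (C.e.symm x - i) ↔ IsSquare (C.e.symm y - i)) := by
      by_cases h1 : IsSquare (C.e.symm u - i) ↔ IsSquare (C.e.symm v - i)
      · exact ⟨u, v, huv, by simp, by simp, h1⟩
      by_cases h2 : IsSquare (C.e.symm u - i) ↔ IsSquare (C.e.symm w - i)
      · exact ⟨u, w, huw, by simp, by simp, h2⟩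
      exact ⟨v, w, hvw, by simp, by simp, by tauto⟩
    have hmemL : ∀ z ∈ ({u, v, w} : Finset α), C.e (C.e.symm z) ∈ Ln ∧ C.e.symm z - i ≠ 0 := by
      intro z hz
      have := hs hz
      rw [Finset.mem_erase] at this
      rw [Equiv.apply_symm_apply]
      exact ⟨this.2, fun h => this.1 (by rw [← sub_eq_zero.1 h, Equiv.apply_symm_apply])⟩
    obtain ⟨hxL, hx0⟩ := hmemL x hx
    obtain ⟨hyL, hy0⟩ := hmemL y hy
    set d := C.e.symm x - i with hd
    set q := (C.e.symm y - i) / d with hq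
    have hq0 : q ≠ 0 := div_ne_zero hy0 hx0
    have hqs : IsSquare q := by
      by_cases h : IsSquare d
      · exact (hcl.1 h).div h
      · have := (isSquare_neg h3 (fun h' => h (hcl.2 h'))).div (isSquare_neg h3 h)
        rwa [neg_div_neg_eq] at this
    have hqd : i + q * d = C.e.symm y := by rw [hq, div_mul_cancel₀ _ hx0]; ring
    have hline : ∀ z, C.e z ∈ Ln → z - i ≠ 0 → S i z = ∑ x ∈ Ln, (C.e.symm x - i) :=
      fun z hz hz0 => by
        show ∑ x ∈ line G a b B (C.e i) (C.e z), (C.e.symm x - i) = _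
        rw [D.line_of_mem C h3 hi hz fun h => hz0 (sub_eq_zero.2 (C.e.injective h).symm)]
    have e1 : S i (i + 1 * d) = ∑ x ∈ Ln, (C.e.symm x - i) := by
      rw [one_mul, hd, add_sub_cancel]; exact hline _ hxL hx0
    have e2 : S i (i + q * d) = ∑ x ∈ Ln, (C.e.symm x - i) := by
      rw [hqd]; exact hline _ hyL hy0
    rw [hS 1 IsSquare.one one_ne_zero, one_mul] at e1
    rw [hS q hqs hq0, e1] at e2
    by_contra hne0
    have : q = 1 := mul_right_cancel₀ hne0 (e2.trans (one_mul _).symm)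
    rw [this, one_mul] at hqd
    apply hxy
    apply C.e.symm.injective
    rw [← hqd, hd]; ring
  obtain ⟨u, hu, v, hv, huv⟩ := Finset.one_lt_card.1 (show 1 < Ln.card by omega)
  have hu' := hmean (C.e.symm u) (by rwa [Equiv.apply_symm_apply])
  have hv' := hmean (C.e.symm v) (by rwa [Equiv.apply_symm_apply])
  rw [Finset.sum_sub_distrib, Finset.sum_const, nsmul_eq_mul] at hu' hv'
  have hk : (Ln.card : ZMod p) ≠ 0 := by
    refine small_ne_zero (by omega) ?_
    rw [← C.card]
    obtain ⟨r, hr, hra⟩ := D.out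
    refine Finset.card_lt_univ_of_notMem (x := r) fun h => ?_
    rw [hLn, mem_line, D.col_iff (a' := a) (b' := b) G.one_mem rfl rfl] at h
    simp only [inv_one, Equiv.Perm.one_apply] at h
    rcases h with h | h | h
    · exact hra h
    · exact hr (h ▸ D.b_mem)
    · exact hr h.1
  exact huv (C.e.symm.injective (mul_left_cancel₀ hk (by linear_combination hv' - hu')))

theorem contradiction (C : Ctx p G) (h3 : p % 4 = 3) (h7 : 7 < p) : False := by
  classical
  have h2 := D.card_B C h3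
  have huniq : ∀ {a' b' x y : α}, Col G a b B a' b' x → Col G a b B a' b' y → x = y := by
    intro a' b' x y hx hy
    by_contra hne
    obtain ⟨hab', hxa, hxb⟩ := D.col_ne hx
    obtain ⟨-, hya, hyb⟩ := D.col_ne hy
    have hsub : ({a', b', x, y} : Finset α) ⊆ line G a b B a' b' := by
      intro z hz
      simp at hz
      rw [mem_line]
      rcases hz with h | h | h | h
      · exact .inl h
      · exact .inr (.inl h)
      · exact .inr (.inr (h ▸ hx))
      · exact .inr (.inr (h ▸ hy))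
    have hc := Finset.card_le_card hsub
    rw [D.card_line C hab', h2] at hc
    simp [hab', Ne.symm hxa, Ne.symm hya, Ne.symm hxb, Ne.symm hyb, hne] at hc
  have hex : ∀ i j : ZMod p, ∃ t, i ≠ j → Col G a b B (C.e i) (C.e j) (C.e t) := by
    intro i j
    by_cases hij : i = j
    · exact ⟨0, fun h => absurd hij h⟩
    obtain ⟨g, hg, hga, hgb⟩ := C.two a b (C.e i) (C.e j) D.ab (fun h => hij (C.e.injective h))
    obtain ⟨z, hz, hzb⟩ := D.big
    exact ⟨C.e.symm (g z), fun _ => ⟨g, hg, hga, hgb, z, hz, hzb, (Equiv.apply_symm_apply _ _).symm⟩⟩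
  choose T hT using hex
  have hTeq : ∀ i j t, Col G a b B (C.e i) (C.e j) (C.e t) → T i j = t := fun i j t h =>
    C.e.injective (huniq (hT i j fun e => (D.col_ne h).1 (congrArg C.e e)) h)
  have hTg : ∀ g ∈ G, ∀ f : ZMod p → ZMod p, (∀ i, g (C.e i) = C.e (f i)) →
      ∀ i j, i ≠ j → f (T i j) = T (f i) (f j) := fun g hg f hf i j hij => by
    have := col_map hg (hT i j hij)
    rw [hf, hf, hf] at this
    exact (hTeq _ _ _ this).symm
  have hTswap : ∀ i j, i ≠ j → T j i = T i j := fun i j hij =>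
    hTeq _ _ _ (D.col_swap C h3 (hT i j hij))
  have hTinv : ∀ i j, i ≠ j → T i (T i j) = j := fun i j hij =>
    hTeq _ _ _ (D.col_trans C (hT i j hij) (.inl rfl) (D.col_ne (hT i j hij)).2.2)
  have hshift : ∀ i j t, i ≠ j → T (i + t) (j + t) = T i j + t := fun i j t hij => by
    obtain ⟨g, hg, hge⟩ := C.shift t
    exact (hTg g hg (fun i => i + t) hge i j hij).symm
  have hmul : ∀ q : ZMod p, IsSquare q → q ≠ 0 → ∀ i j, i ≠ j → T (q * i) (q * j) = q * T i j :=
    fun q hq hq0 i j hij => by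
      obtain ⟨g, hg, hge⟩ := C.mul q hq hq0
      exact (hTg g hg (fun i => q * i) hge i j hij).symm
  set lam := T 0 1 with hlam
  have e1 : (1 : ZMod p) ≠ 0 := one_ne_zero
  have hm : T 0 (-1) = lam - 1 := by
    rw [hTswap (-1) 0 (by simp)]
    have := hshift 0 1 (-1) zero_ne_one
    rw [zero_add, add_neg_cancel, ← sub_eq_add_neg] at this
    exact this
  have hsq : ∀ q : ZMod p, q ≠ 0 → IsSquare q → T 0 q = lam * q := fun q hq0 hq => by
    have := hmul q hq hq0 0 1 zero_ne_one
    rw [mul_zero, mul_one] at this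
    rw [this, mul_comm]
  have hns : ∀ d : ZMod p, ¬ IsSquare d → T 0 d = (1 - lam) * d := fun d hd => by
    have hd0 : -d ≠ 0 := neg_ne_zero.2 fun e => hd (e ▸ IsSquare.zero)
    have := hmul (-d) (isSquare_neg h3 hd) hd0 0 (-1) (by simp)
    rw [mul_zero, neg_mul_neg, mul_one, hm] at this
    rw [this]; ring
  obtain ⟨hl0, hl1⟩ : lam ≠ 0 ∧ lam ≠ 1 := by
    obtain ⟨-, h1, h2⟩ := D.col_ne (hT 0 1 zero_ne_one)
    exact ⟨fun e => h1 (congrArg C.e e), fun e => h2 (congrArg C.e e)⟩
  have hinv := hTinv 0 1 zero_ne_one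
  rw [← hlam] at hinv
  have hlamns : ¬ IsSquare lam := by
    intro h
    rw [hsq lam hl0 h] at hinv
    rcases mul_self_eq_one_iff.1 hinv with e | e
    · exact hl1 e
    · rw [e] at h
      exact not_isSquare_neg h3 e1 IsSquare.one h
  rw [hns lam hlamns] at hinv
  have hq : lam ^ 2 - lam + 1 = 0 := by linear_combination -hinv
  have hthird : Third lam T := by
    intro i j hij
    have hd : j - i ≠ 0 := sub_ne_zero.2 (Ne.symm hij)
    have h0 := hshift 0 (j - i) i (Ne.symm hd)
    rw [zero_add, sub_add_cancel] at h0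
    exact ⟨fun h => by rw [h0, hsq _ hd h, add_comm], fun h => by rw [h0, hns _ h, add_comm]⟩
  obtain ⟨g0, hg0, hg0a, hg0b⟩ :=
    C.two a b (C.e 0) (C.e 1) D.ab (fun h => zero_ne_one (C.e.injective h))
  obtain ⟨n2, n3, n23, n1, n21⟩ := quad_ne hq h7
  have e2 : (2 : ZMod p) ≠ 0 := by
    exact_mod_cast small_ne_zero (p := p) (n := 2) (by norm_num) (by omega)
  have hpt : ∀ t : ZMod p, t ≠ 0 → t ≠ 1 → t ≠ lam →
      g0⁻¹ (C.e t) ≠ a ∧ g0⁻¹ (C.e t) ≠ b ∧ g0⁻¹ (C.e t) ∉ B := by
    intro t t0 t1 tl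
    have ha : g0⁻¹ (C.e t) ≠ a := fun h => t0 (C.e.injective (by
      rw [← hg0a, ← h]; exact (g0.apply_symm_apply _).symm))
    have hb : g0⁻¹ (C.e t) ≠ b := fun h => t1 (C.e.injective (by
      rw [← hg0b, ← h]; exact (g0.apply_symm_apply _).symm))
    exact ⟨ha, hb, fun h => tl (hTeq 0 1 t ((D.col_iff hg0 hg0a hg0b).2 ⟨h, hb⟩)).symm⟩
  obtain ⟨x1, x2, x3⟩ := hpt (-1) (neg_ne_zero.2 e1) (fun h => e2 (by linear_combination -h))
    (fun h => n1 h.symm)
  obtain ⟨y1, y2, y3⟩ := hpt (-lam) (neg_ne_zero.2 hl0) (fun h => n1 (by linear_combination -h))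
    (fun h => hl0 ((mul_eq_zero.1 (show 2 * lam = 0 by linear_combination -h)).resolve_left e2))
  obtain ⟨u, hu, hua, hub, huxy⟩ := D.orbit C h3 x1 y1 x2 y2 (iff_of_false x3 y3)
  set w := g0 * u * g0⁻¹ with hw
  have hwG : w ∈ G := G.mul_mem (G.mul_mem hg0 hu) (G.inv_mem hg0)
  let f : ZMod p → ZMod p := fun i => C.e.symm (w (C.e i))
  have hfw : ∀ i, w (C.e i) = C.e (f i) := fun i => (C.e.apply_symm_apply _).symm
  refine netto_no_auto h3 h7 hq hlamns hthird (g := f) ?_ (hTg w hwG f hfw) ?_ ?_ ?_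
  · intro i j h
    exact C.e.injective (w.injective (C.e.symm.injective h))
  · show C.e.symm (w (C.e 0)) = 0
    rw [hw, Equiv.Perm.mul_apply, Equiv.Perm.mul_apply, inv_apply_of hg0a, hua, hg0a,
      Equiv.symm_apply_apply]
  · show C.e.symm (w (C.e 1)) = 1
    rw [hw, Equiv.Perm.mul_apply, Equiv.Perm.mul_apply, inv_apply_of hg0b, hub, hg0b,
      Equiv.symm_apply_apply]
  · show C.e.symm (w (C.e (-1))) = -lam
    rw [hw, Equiv.Perm.mul_apply, Equiv.Perm.mul_apply, huxy,
      show g0 (g0⁻¹ (C.e (-lam))) = C.e (-lam) from g0.apply_symm_apply _, Equiv.symm_apply_apply]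

end BlockData

end Cfsg.Agent.PrimeDegreeHalf
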