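import Mathlib

/-!
Multiple transitivity of a group of permutations, in a form suited to explicit tuples.
-/

set_option autoImplicit false

namespace Cfsg.Agent.PrimeDegreeHalf

variable {α : Type*} {R : Subgroup (Equiv.Perm α)}

/-- any two injective `n`-tuples are related by an element of `R` -/
def Trans (R : Subgroup (Equiv.Perm α)) (n : ℕ) : Prop :=
  ∀ x y : Fin n → α, Function.Injective x → Function.Injective y →
    ∃ g ∈ R, ∀ i, g (x i) = y i

theorem trans_iff {n : ℕ} :
    Trans R n ↔ MulAction.IsMultiplyPretransitive R α n := by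
  rw [MulAction.isMultiplyPretransitive_iff]
  constructor
  · intro h x y
    obtain ⟨g, hg, hxy⟩ := h x y x.injective y.injective
    exact ⟨⟨g, hg⟩, Function.Embedding.ext hxy⟩
  · intro h x y hx hy
    obtain ⟨⟨g, hg⟩, hxy⟩ := h (x := ⟨x, hx⟩) (y := ⟨y, hy⟩)
    exact ⟨g, hg, fun i => DFunLike.congr_fun hxy i⟩

/-- one more point, moved freely while a tuple is held fixed -/
theorem Trans.succ {n : ℕ} (h : Trans R n)
    (hfix : ∀ x : Fin n → α, Function.Injective x → ∀ e f : α, e ∉ Set.range x →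
      f ∉ Set.range x → ∃ g ∈ R, (∀ i, g (x i) = x i) ∧ g e = f) :
    Trans R (n + 1) := by
  intro x y hx hy
  obtain ⟨g, hg, hgx⟩ := h (x ∘ Fin.castSucc) (y ∘ Fin.castSucc)
    (hx.comp (Fin.castSucc_injective n)) (hy.comp (Fin.castSucc_injective n))
  obtain ⟨u, hu, hufix, hue⟩ := hfix (y ∘ Fin.castSucc) (hy.comp (Fin.castSucc_injective n))
    (g (x (Fin.last n))) (y (Fin.last n))
    (by
      rintro ⟨i, hi⟩
      rw [← hgx i] at hi
      exact Fin.castSucc_ne_last i (hx (g.injective hi)))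
    (by
      rintro ⟨i, hi⟩
      exact Fin.castSucc_ne_last i (hy hi))
  refine ⟨u * g, R.mul_mem hu hg, fun i => ?_⟩
  induction i using Fin.lastCases with
  | last => rw [Equiv.Perm.mul_apply, hue]
  | cast i =>
    rw [Equiv.Perm.mul_apply]
    exact (congrArg u (hgx i)).trans (hufix i)

theorem inj_two {a b : α} (h : a ≠ b) : Function.Injective ![a, b] := by
  intro i j e
  fin_cases i <;> fin_cases j <;>
    first | rfl | (exfalso; simp only [Fin.zero_eta, Fin.mk_one, Matrix.cons_val_zero,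
      Matrix.cons_val_one] at e; first | exact h e | exact h e.symm)

theorem inj_three {a b c : α} (hab : a ≠ b) (hac : a ≠ c) (hbc : b ≠ c) :
    Function.Injective ![a, b, c] := by
  intro i j e
  fin_cases i <;> fin_cases j <;> simp_all

theorem Trans.two (h : Trans R 2) {a b a' b' : α} (h1 : a ≠ b) (h2 : a' ≠ b') :
    ∃ g ∈ R, g a = a' ∧ g b = b' := by
  obtain ⟨g, hg, hi⟩ := h ![a, b] ![a', b'] (inj_two h1) (inj_two h2)
  exact ⟨g, hg, by simpa using hi 0, by simpa using hi 1⟩

theorem Trans.three (h : Trans R 3) {a b c a' b' c' : α} (hab : a ≠ b) (hac : a ≠ c)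
    (hbc : b ≠ c) (hab' : a' ≠ b') (hac' : a' ≠ c') (hbc' : b' ≠ c') :
    ∃ g ∈ R, g a = a' ∧ g b = b' ∧ g c = c' := by
  obtain ⟨g, hg, hi⟩ := h ![a, b, c] ![a', b', c'] (inj_three hab hac hbc) (inj_three hab' hac' hbc')
  exact ⟨g, hg, by simpa using hi 0, by simpa using hi 1, by simpa using hi 2⟩

theorem Trans.mono [Finite α] {n m : ℕ} (h : Trans R n) (hmn : m ≤ n) (hn : n ≤ Nat.card α) :
    Trans R m := by
  rw [trans_iff] at h ⊢
  haveI := h
  exact MulAction.isMultiplyPretransitive_of_le' hmn (by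
    rw [ENat.card_eq_coe_natCard]; exact_mod_cast hn)

theorem Trans.primitive [Finite α] {n : ℕ} (h : Trans R n) (h2 : 2 ≤ n) (hn : n ≤ Nat.card α) :
    MulAction.IsPreprimitive R α := by
  haveI := trans_iff.1 (h.mono h2 hn)
  exact MulAction.isPreprimitive_of_is_two_pretransitive inferInstance

end Cfsg.Agent.PrimeDegreeHalf
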