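import Mathlib
import Cfsg.Agent.S0674
import Cfsg.Agent.S0675
import Cfsg.Agent.PermGroups.PrimeDegree

/-!
Insoluble transitive groups of prime degree `p` whose Sylow normalizer has order `p (p - 1) / 2`:
a two-point stabilizer has at most four orbits.
-/

set_option autoImplicit false
open Cfsg

namespace Cfsg.Agent.PrimeDegreeHalf

variable {p : ℕ} [hp : Fact p.Prime] {α : Type*} [Fintype α] [DecidableEq α]

/-- coordinates in which the translations and the square multipliers act -/
structure Ctx (p : ℕ) [Fact p.Prime] (G : Subgroup (Equiv.Perm α)) where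
  e : ZMod p ≃ α
  trans : MulAction.IsPretransitive G α
  nonsolv : ¬ Group.IsSolvable G
  card : Fintype.card α = p
  two : ∀ a b a' b' : α, a ≠ b → a' ≠ b' → ∃ g ∈ G, g a = a' ∧ g b = b'
  shift : ∀ t : ZMod p, ∃ g ∈ G, ∀ i, g (e i) = e (i + t)
  mul : ∀ q : ZMod p, IsSquare q → q ≠ 0 → ∃ g ∈ G, ∀ i, g (e i) = e (q * i)

theorem two_of_isMultiplyPretransitive {G : Subgroup (Equiv.Perm α)}
    (h : MulAction.IsMultiplyPretransitive G α 2) :
    ∀ a b a' b' : α, a ≠ b → a' ≠ b' → ∃ g ∈ G, g a = a' ∧ g b = b' := by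
  intro a b a' b' hab hab'
  obtain ⟨g, hg1, hg2⟩ := (MulAction.is_two_pretransitive_iff).1 h hab hab'
  exact ⟨g.1, g.2, hg1, hg2⟩

theorem exists_ctx (hα : Fintype.card α = p) (G : Subgroup (Equiv.Perm α))
    [MulAction.IsPretransitive G α] (hG : ¬ Group.IsSolvable G) (P : Sylow p G)
    (hN : 2 * Nat.card (Subgroup.normalizer ((P : Subgroup G) : Set G)) = p * (p - 1)) :
    Nonempty (Ctx p G) := by
  classical
  have hp' := (Fact.out : p.Prime)
  obtain ⟨e, τ, hτ, hτe⟩ := Cfsg.Lib.PermGroups.PrimeDegree.exists_coord hα G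
  obtain ⟨P', hP'⟩ := Cfsg.Lib.PermGroups.PrimeDegree.sylow_coord hα G hτ hτe
  set N := Subgroup.normalizer ((P' : Subgroup G) : Set G) with hNdef
  have hN' : 2 * Nat.card N = p * (p - 1) := by
    have hi : N.index = (Subgroup.normalizer ((P : Subgroup G) : Set G)).index :=
      P'.card_eq_index_normalizer.symm.trans P.card_eq_index_normalizer
    have h1 := N.card_mul_index
    rw [hi, ← (Subgroup.normalizer ((P : Subgroup G) : Set G)).card_mul_index] at h1
    rw [Nat.eq_of_mul_eq_mul_right (Nat.pos_of_ne_zero Subgroup.index_ne_zero_of_finite) h1]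
    exact hN
  have haff : ∀ u : N, ∃ c k : ZMod p, ∀ i, e.symm ((u.1 : Equiv.Perm α) (e i)) = c + k * i := by
    rintro ⟨u, hu⟩
    rw [hNdef, hP', Subgroup.mem_normalizer_iff] at hu
    obtain ⟨n, hn⟩ := Subgroup.mem_zpowers_iff.1 ((hu _).1 (Subgroup.mem_zpowers _))
    exact Cfsg.Lib.PermGroups.PrimeDegree.affine_of_conj hτe
      (show (u : Equiv.Perm α) * τ * (u : Equiv.Perm α)⁻¹ ∈ Subgroup.zpowers τ from
        ⟨n, congrArg Subtype.val hn⟩)
  let f : N → ZMod p → ZMod p := fun u i => e.symm ((u.1 : Equiv.Perm α) (e i))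
  have hf1 : ∀ u i, f u i = f u 0 + (f u 1 - f u 0) * i := by
    intro u i
    obtain ⟨c, k, h⟩ := haff u
    simp only [f, h]; ring
  have hfcomp : ∀ u w i, f (u * w) i = f u (f w i) := fun u w i => by
    show e.symm ((u.1 : Equiv.Perm α) ((w.1 : Equiv.Perm α) (e i))) = _
    simp only [f, Equiv.apply_symm_apply]
  have hfinj : ∀ u, Function.Injective (f u) := fun u i j h =>
    e.injective ((u.1 : Equiv.Perm α).injective (e.symm.injective h))
  let θ : N →* (ZMod p)ˣ :=
    { toFun := fun u => Units.mk0 (f u 1 - f u 0) (sub_ne_zero.2 fun h =>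
        one_ne_zero (hfinj u h))
      map_one' := Units.ext (by
        show f 1 1 - f 1 0 = 1
        simp [f])
      map_mul' := fun u w => Units.ext (by
        show f (u * w) 1 - f (u * w) 0 = (f u 1 - f u 0) * (f w 1 - f w 0)
        rw [hfcomp, hfcomp, hf1 u (f w 1), hf1 u (f w 0)]; ring) }
  have hker : Nat.card θ.ker ≤ p := by
    refine (Nat.card_le_card_of_injective (fun u : θ.ker => f u.1 0) ?_).trans (Nat.card_zmod p).le
    intro u w h
    have hu : f u.1 1 - f u.1 0 = 1 := congrArg Units.val (MonoidHom.mem_ker.1 u.2)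
    have hw : f w.1 1 - f w.1 0 = 1 := congrArg Units.val (MonoidHom.mem_ker.1 w.2)
    refine Subtype.ext (Subtype.ext (Subtype.ext (Equiv.ext fun x => ?_)))
    obtain ⟨i, rfl⟩ := e.surjective x
    apply e.symm.injective
    show f u.1 i = f w.1 i
    rw [hf1, hf1 w.1, hu, hw]
    rw [show f u.1 0 = f w.1 0 from h]
  have hrange : Nat.card (ZMod p)ˣ ≤ 2 * Nat.card θ.range := by
    have h1 : Nat.card N = Nat.card θ.ker * Nat.card θ.range := by
      rw [← Subgroup.index_ker, Subgroup.card_mul_index]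
    have h2 : p * (p - 1) ≤ p * (2 * Nat.card θ.range) := by
      rw [← hN', h1]
      calc 2 * (Nat.card θ.ker * Nat.card θ.range) ≤ 2 * (p * Nat.card θ.range) :=
            Nat.mul_le_mul_left 2 (Nat.mul_le_mul_right _ hker)
        _ = p * (2 * Nat.card θ.range) := by ring
    rw [Nat.card_eq_fintype_card, ZMod.card_units]
    exact Nat.le_of_mul_le_mul_left h2 hp'.pos
  have hsq : ∀ x : (ZMod p)ˣ, x ^ 2 ∈ θ.range := by
    intro x
    have h1 := θ.range.card_mul_index
    have hi : θ.range.index ≤ 2 := by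
      by_contra hc
      have h3 : 3 * Nat.card θ.range ≤ Nat.card θ.range * θ.range.index := by
        rw [mul_comm]; exact Nat.mul_le_mul_left _ (by omega)
      have hpos : 0 < Nat.card θ.range := Nat.card_pos
      omega
    rcases Nat.lt_or_ge θ.range.index 2 with h | h
    · have : θ.range.index = 1 := by
        have := Nat.pos_of_ne_zero (θ.range.index_ne_zero_of_finite); omega
      rw [Subgroup.index_eq_one.1 this]; exact Subgroup.mem_top _
    · exact Subgroup.sq_mem_of_index_two (by omega) x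
  have hshift : ∀ t : ZMod p, ∃ g ∈ G, ∀ i, g (e i) = e (i + t) := fun t =>
    ⟨τ ^ t.val, pow_mem hτ _, fun i => by
      rw [Cfsg.Lib.PermGroups.PrimeDegree.pow_apply_coord hτe, ZMod.natCast_zmod_val]⟩
  refine ⟨⟨e, inferInstance, hG, hα, two_of_isMultiplyPretransitive
    ((Cfsg.Agent.S0675.result (α := α) (hα ▸ hp') G).resolve_left hG), hshift, ?_⟩⟩
  rintro q ⟨r, rfl⟩ hq
  obtain ⟨u, hu⟩ := hsq (Units.mk0 r (fun h => hq (by rw [h, mul_zero])))
  have hu' : f u 1 - f u 0 = r * r := by
    have := congrArg Units.val hu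
    simpa [θ, sq] using this
  obtain ⟨g, hg, hge⟩ := hshift (-(f u 0))
  refine ⟨g * (u.1 : Equiv.Perm α), G.mul_mem hg u.1.2, fun i => ?_⟩
  rw [Equiv.Perm.mul_apply, ← Equiv.apply_symm_apply e ((u.1 : Equiv.Perm α) (e i)), hge]
  congr 1
  show f u i + -f u 0 = r * r * i
  rw [hf1, hu']; ring

variable {G : Subgroup (Equiv.Perm α)}

/-- related by the stabilizer of two points -/
def Fix2 (G : Subgroup (Equiv.Perm α)) (a b x y : α) : Prop :=
  ∃ g ∈ G, g a = a ∧ g b = b ∧ g x = y

theorem fix2_equivalence (a b : α) : Equivalence (Fix2 G a b) :=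
  ⟨fun _ => ⟨1, G.one_mem, rfl, rfl, rfl⟩,
    fun {x y} ⟨g, hg, ha, hb, hxy⟩ => ⟨g⁻¹, G.inv_mem hg, Equiv.Perm.inv_eq_iff_eq.2 ha.symm,
      Equiv.Perm.inv_eq_iff_eq.2 hb.symm, Equiv.Perm.inv_eq_iff_eq.2 hxy.symm⟩,
    fun {x y z} ⟨g, hg, ha, hb, hxy⟩ ⟨h, hh, ha', hb', hyz⟩ => ⟨h * g, G.mul_mem hh hg,
      by rw [Equiv.Perm.mul_apply, ha, ha'], by rw [Equiv.Perm.mul_apply, hb, hb'],
      by rw [Equiv.Perm.mul_apply, hxy, hyz]⟩⟩

/-- orbits of the two-point stabilizer -/
def fix2Setoid (G : Subgroup (Equiv.Perm α)) (a b : α) : Setoid α :=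
  ⟨Fix2 G a b, fix2_equivalence a b⟩

theorem Ctx.eq_const (C : Ctx p G) (c : α → ZMod p)
    (hker : ∀ g ∈ G, ∑ x, c x * C.e.symm (g x) = 0) (hsum : ∑ x, c x = 0) (x y : α) :
    c x = c y := by
  classical
  haveI := C.trans
  let S := (Cfsg.permSumZero (ZMod p) G α)
  let W : Subrepresentation (Cfsg.permRep (ZMod p) G α) :=
    { toSubmodule :=
        { carrier := {f | ∑ x, f x = 0 ∧ ∀ g ∈ G, ∑ x, c x * f (g x) = 0}
          add_mem' := fun {f₁ f₂} h₁ h₂ => ⟨by
              rw [show ∑ x, (f₁ + f₂) x = ∑ x, f₁ x + ∑ x, f₂ x from Finset.sum_add_distrib,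
                h₁.1, h₂.1, add_zero],
            fun g hg => by
              simp only [Pi.add_apply, mul_add, Finset.sum_add_distrib]
              rw [h₁.2 g hg, h₂.2 g hg, add_zero]⟩
          zero_mem' := ⟨by simp, fun g hg => by simp⟩
          smul_mem' := fun r f h => ⟨by
              simp only [Pi.smul_apply, smul_eq_mul, ← Finset.mul_sum]
              rw [h.1, mul_zero],
            fun g hg => by
              simp only [Pi.smul_apply, smul_eq_mul, mul_left_comm _ r, ← Finset.mul_sum]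
              rw [h.2 g hg, mul_zero]⟩ }
      apply_mem_toSubmodule := fun h f hf => by
        refine ⟨?_, fun g hg => ?_⟩
        · show ∑ x, f (h⁻¹ • x) = 0
          exact (Equiv.sum_comp ((h⁻¹ : G).1) f).trans hf.1
        · exact hf.2 ((h⁻¹ : G).1 * g) (G.mul_mem (h⁻¹).2 hg) }
  have hmem : ∀ f : α → ZMod p, (∑ x, f x = 0) → (∀ g ∈ G, ∑ x, c x * f (g x) = 0) →
      f ∈ W.toSubmodule := fun f h1 h2 => ⟨h1, h2⟩
  have hl : (fun z => C.e.symm z) ∈ W.toSubmodule := by
    refine hmem _ ?_ hker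
    rw [C.e.symm.sum_comp (fun i => i)]
    haveI := Fact.mk (Fact.out : p.Prime)
    have h2 : 2 < p := by
      by_contra hle
      have hp2 : p = 2 := le_antisymm (by omega) hp.out.two_le
      haveI : Fact (Nat.Prime 2) := ⟨Nat.prime_two⟩
      have hc : Nat.card (Equiv.Perm α) = 2 := by
        rw [Nat.card_perm, Nat.card_eq_fintype_card, C.card, hp2]; rfl
      haveI : IsCyclic (Equiv.Perm α) := isCyclic_of_prime_card hc
      exact C.nonsolv (Group.isSolvable_of_comm fun a b =>
        Subtype.ext (IsMulCommutative.is_comm.comm a.1 b.1))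
    simpa using FiniteField.sum_pow_lt_card_sub_one (ZMod p) 1 (by rw [ZMod.card]; omega)
  have h1 : (Cfsg.permConstants (ZMod p) G α).toSubmodule ≤ W.toSubmodule := Submodule.span_le.2 (by
    rintro _ rfl
    refine hmem _ ?_ fun g hg => ?_
    · rw [Finset.sum_const, Finset.card_univ, C.card, nsmul_one, ZMod.natCast_self]
    · simpa using hsum)
  rcases Cfsg.Agent.S0674.result C.card G C.nonsolv W h1 (fun f hf => hf.1) with h | h
  · exfalso
    rw [h] at hl
    obtain ⟨r, hr⟩ := Submodule.mem_span_singleton.1 hl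
    have e0 := congrFun hr (C.e 0); have e1 := congrFun hr (C.e 1)
    rw [Equiv.symm_apply_apply] at e0 e1
    exact zero_ne_one (e0.symm.trans e1)
  · set f : α → ZMod p := fun z => (if z = x then 1 else 0) - (if z = y then 1 else 0) with hfdef
    have hf : f ∈ W.toSubmodule := by
      rw [h]
      show ∑ z, f z = 0
      simp [hfdef, Finset.sum_sub_distrib]
    have h2 := hf.2 1 G.one_mem
    simp only [hfdef, Equiv.Perm.one_apply, mul_sub, Finset.sum_sub_distrib, mul_ite, mul_one,
      mul_zero, Finset.sum_ite_eq', Finset.mem_univ, if_true, sub_eq_zero] at h2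
    exact h2

theorem Ctx.pair_ne (C : Ctx p G) (h : p % 4 = 3) : C.e 0 ≠ C.e 1 ∧ C.e 0 ≠ C.e (-1) := by
  constructor <;> intro e
  · exact zero_ne_one (C.e.injective e)
  · exact one_ne_zero (neg_eq_zero.1 (C.e.injective e).symm)

/-- a two-point stabilizer has at most four orbits -/
theorem Ctx.card_orbits_le (C : Ctx p G) (h3 : p % 4 = 3)
    (hsq : ∀ x : ZMod p, ¬ IsSquare x → IsSquare (-x)) (a b : α) (hab : a ≠ b) :
    Nat.card (Quotient (fix2Setoid G a b)) ≤ 4 := by
  classical
  set s := fix2Setoid G a b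
  haveI : Fintype (Quotient s) := Fintype.ofFinite _
  obtain ⟨g1, hg1, hg1a, hg1b⟩ := C.two a b (C.e 0) (C.e 1) hab (C.pair_ne h3).1
  obtain ⟨g2, hg2, hg2a, hg2b⟩ := C.two a b (C.e 0) (C.e (-1)) hab (C.pair_ne h3).2
  let cf : (Quotient s → ZMod p) → α → ZMod p := fun c x => c (Quotient.mk s x)
  let L : (Quotient s → ZMod p) →ₗ[ZMod p] (Fin 3 → ZMod p) :=
    { toFun := fun c => ![∑ x, cf c x, ∑ x, cf c x * C.e.symm (g1 x),
        ∑ x, cf c x * C.e.symm (g2 x)]
      map_add' := fun c d => by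
        funext i
        fin_cases i <;> simp [cf, add_mul, Finset.sum_add_distrib]
      map_smul' := fun r c => by
        funext i
        fin_cases i <;> simp [cf, Finset.mul_sum, mul_assoc] }
  have hker : LinearMap.ker L ≤ Submodule.span (ZMod p) {fun _ => 1} := by
    intro c hc
    have h0 : ∑ x, cf c x = 0 := congrFun (LinearMap.mem_ker.1 hc) 0
    have h1 : ∑ x, cf c x * C.e.symm (g1 x) = 0 := congrFun (LinearMap.mem_ker.1 hc) 1
    have h2 : ∑ x, cf c x * C.e.symm (g2 x) = 0 := congrFun (LinearMap.mem_ker.1 hc) 2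
    have hinv : ∀ u ∈ G, u a = a → u b = b → ∀ x, cf c (u x) = cf c x := fun u hu hua hub x =>
      congrArg c (Quotient.sound ((fix2_equivalence a b).symm ⟨u, hu, hua, hub, rfl⟩))
    have key : ∀ g ∈ G, ∑ x, cf c x * C.e.symm (g x) = 0 := by
      intro g hg
      set i := C.e.symm (g a) with hi
      set d := C.e.symm (g b) - i with hd
      have hd0 : d ≠ 0 := fun h => hab (g.injective
        (C.e.symm.injective (sub_eq_zero.1 h).symm))
      obtain ⟨t, ht, hte⟩ := C.shift i
      obtain ⟨q, gk, hgk, hq, hq0, hgka, hgkb, hgk0⟩ : ∃ q : ZMod p, ∃ gk ∈ G, IsSquare q ∧ q ≠ 0 ∧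
          gk a = C.e 0 ∧ C.e.symm (gk b) * q = d ∧ ∑ x, cf c x * C.e.symm (gk x) = 0 := by
        rcases em (IsSquare d) with h | h
        · exact ⟨d, g1, hg1, h, hd0, hg1a, by rw [hg1b, Equiv.symm_apply_apply, one_mul], h1⟩
        · exact ⟨-d, g2, hg2, hsq d h, neg_ne_zero.2 hd0, hg2a,
            by rw [hg2b, Equiv.symm_apply_apply]; ring, h2⟩
      obtain ⟨v, hv, hve⟩ := C.mul q hq hq0
      set u := g⁻¹ * (t * (v * gk)) with hu
      have happ : ∀ x, C.e.symm (g (u x)) = q * C.e.symm (gk x) + i := fun x => by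
        rw [hu, Equiv.Perm.mul_apply, Equiv.Perm.mul_apply, Equiv.Perm.mul_apply,
          show g (g⁻¹ (t (v (gk x)))) = t (v (gk x)) from g.apply_symm_apply _]
        conv_lhs => rw [← Equiv.apply_symm_apply C.e (gk x), hve, hte, Equiv.symm_apply_apply]
      have huG : u ∈ G := G.mul_mem (G.inv_mem hg) (G.mul_mem ht (G.mul_mem hv hgk))
      have hua : u a = a := g.injective (C.e.symm.injective (by
        rw [happ, hgka, Equiv.symm_apply_apply, mul_zero, zero_add]))
      have hub : u b = b := g.injective (C.e.symm.injective (by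
        rw [happ, mul_comm, hgkb, hd, sub_add_cancel]))
      calc ∑ x, cf c x * C.e.symm (g x) = ∑ x, cf c (u x) * C.e.symm (g (u x)) :=
            (Equiv.sum_comp u (fun x => cf c x * C.e.symm (g x))).symm
        _ = ∑ x, (q * (cf c x * C.e.symm (gk x)) + i * cf c x) :=
            Finset.sum_congr rfl fun x _ => by rw [hinv u huG hua hub x, happ]; ring
        _ = 0 := by
            rw [Finset.sum_add_distrib, ← Finset.mul_sum, ← Finset.mul_sum, hgk0, h0]; ring
    refine Submodule.mem_span_singleton.2 ⟨cf c a, funext fun z => ?_⟩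
    obtain ⟨x, rfl⟩ := Quotient.exists_rep z
    simpa using C.eq_const (cf c) key h0 a x
  have hk : Module.finrank (ZMod p) (LinearMap.ker L) ≤ 1 :=
    (Submodule.finrank_mono hker).trans ((finrank_span_le_card _).trans (by simp))
  have hr : Module.finrank (ZMod p) (LinearMap.range L) ≤ 3 :=
    (Submodule.finrank_le _).trans (by simp)
  have htot := LinearMap.finrank_range_add_finrank_ker L
  rw [Module.finrank_fintype_fun_eq_card] at htot
  rw [Nat.card_eq_fintype_card]
  omega

end Cfsg.Agent.PrimeDegreeHalf
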