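import Cfsg.Agent.PrimeDegreeHalf.Main
import Cfsg.Agent.PrimeDegreeHalf.Multi

/-!
If `p - 2` is prime then a two-point stabilizer is transitive on the other points.
-/

set_option autoImplicit false

namespace Cfsg.Agent.PrimeDegreeHalf

variable {p : ℕ} [hp : Fact p.Prime] {α : Type*} [Fintype α] [DecidableEq α]
  {G : Subgroup (Equiv.Perm α)}

/-- the neighbours of `u` in the graph of an orbit `O` of the stabilizer of `a` and `b` -/
noncomputable def nbrs (G : Subgroup (Equiv.Perm α)) (a b : α) (O : Finset α) (u : α) : Finset α :=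
  open Classical in
  Finset.univ.filter fun v => ∃ g ∈ G, g a = a ∧ g b = u ∧ g⁻¹ v ∈ O

theorem mem_nbrs {a b u v : α} {O : Finset α} :
    v ∈ nbrs G a b O u ↔ ∃ g ∈ G, g a = a ∧ g b = u ∧ g⁻¹ v ∈ O := by
  simp [nbrs]

theorem nbrs_map {a b : α} {O : Finset α} {h : Equiv.Perm α} (hh : h ∈ G) (hha : h a = a)
    (u : α) : nbrs G a b O (h u) = (nbrs G a b O u).image h := by
  ext v
  rw [Finset.mem_image, mem_nbrs]
  constructor
  · rintro ⟨g, hg, hga, hgb, hv⟩
    refine ⟨h⁻¹ v, mem_nbrs.2 ⟨h⁻¹ * g, G.mul_mem (G.inv_mem hh) hg, ?_, ?_, ?_⟩,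
      h.apply_symm_apply v⟩
    · rw [Equiv.Perm.mul_apply, hga, inv_apply_of hha]
    · rw [Equiv.Perm.mul_apply, hgb, inv_apply_of rfl]
    · rwa [mul_inv_rev, inv_inv, Equiv.Perm.mul_apply, show h (h⁻¹ v) = v from h.apply_symm_apply v]
  · rintro ⟨w, hw, rfl⟩
    obtain ⟨g, hg, hga, hgb, hw'⟩ := mem_nbrs.1 hw
    refine ⟨h * g, G.mul_mem hh hg, by rw [Equiv.Perm.mul_apply, hga, hha],
      by rw [Equiv.Perm.mul_apply, hgb], ?_⟩
    rwa [mul_inv_rev, Equiv.Perm.mul_apply, inv_apply_of rfl]

theorem Ctx.fix2_of_sub_two_prime (C : Ctx p G) (h3 : p % 4 = 3) (h7 : 7 < p) {q : ℕ}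
    (hq : q.Prime) (hq2 : q ≠ 2) (hpq : p = q + 2) {a b x y : α} (hab : a ≠ b) (hxa : x ≠ a)
    (hxb : x ≠ b) (hya : y ≠ a) (hyb : y ≠ b) : Fix2 G a b x y := by
  classical
  by_contra hxy
  have hsym := fun {u v} (h : Fix2 G a b u v) => (fix2_equivalence a b).symm h
  have htr := fun {u v w} (h : Fix2 G a b u v) (h' : Fix2 G a b v w) =>
    (fix2_equivalence a b).trans h h'
  have hsplit : ∀ z, z ≠ a → z ≠ b → Fix2 G a b x z ∨ Fix2 G a b y z := by
    intro z hza hzb
    by_contra hn
    rw [not_or] at hn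
    haveI := Fintype.ofFinite (Quotient (fix2Setoid G a b))
    have hle := C.card_orbits_le h3 (fun x hx => isSquare_neg h3 hx) a b hab
    rw [Nat.card_eq_fintype_card] at hle
    let f : Fin 5 → Quotient (fix2Setoid G a b) := fun i => Quotient.mk _ (![a, b, x, y, z] i)
    have ha1 : ∀ v, Fix2 G a b a v → v = a := fun v ⟨g, _, h1, _, h2⟩ => h2.symm.trans h1
    have hb1 : ∀ v, Fix2 G a b b v → v = b := fun v ⟨g, _, _, h1, h2⟩ => h2.symm.trans h1
    have hf : Function.Injective f := by
      intro i j h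
      have h' : Fix2 G a b (![a, b, x, y, z] i) (![a, b, x, y, z] j) := Quotient.exact h
      fin_cases i <;> fin_cases j <;> first
        | rfl
        | exact absurd (ha1 _ h') (by first | exact hab.symm | exact hxa | exact hya | exact hza)
        | exact absurd (ha1 _ (hsym h')) (by first | exact hab.symm | exact hxa | exact hya | exact hza)
        | exact absurd (hb1 _ h') (by first | exact hxb | exact hyb | exact hzb)
        | exact absurd (hb1 _ (hsym h')) (by first | exact hxb | exact hyb | exact hzb)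
        | exact absurd h' hxy
        | exact absurd (hsym h') hxy
        | exact absurd h' hn.1
        | exact absurd (hsym h') hn.1
        | exact absurd h' hn.2
        | exact absurd (hsym h') hn.2
    have := Fintype.card_le_of_injective f hf
    simp at this
    omega
  set O := Finset.univ.filter fun v => Fix2 G a b x v with hO
  set O' := Finset.univ.filter fun v => Fix2 G a b y v with hO'
  have hmemO : ∀ v, v ∈ O ↔ Fix2 G a b x v := fun v => by simp [hO]
  have hmemO' : ∀ v, v ∈ O' ↔ Fix2 G a b y v := fun v => by simp [hO']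
  have hne : ∀ u v, u ≠ a → u ≠ b → Fix2 G a b u v → v ≠ a ∧ v ≠ b := by
    rintro u v hua hub ⟨g, hg, hga, hgb, rfl⟩
    exact ⟨fun e => hua (g.injective (e.trans hga.symm)),
      fun e => hub (g.injective (e.trans hgb.symm))⟩
  have hOab : ∀ v ∈ O, v ≠ a ∧ v ≠ b := fun v hv => hne x v hxa hxb ((hmemO v).1 hv)
  have hO'ab : ∀ v ∈ O', v ≠ a ∧ v ≠ b := fun v hv => hne y v hya hyb ((hmemO' v).1 hv)
  have hdis : Disjoint O O' := Finset.disjoint_left.2 fun v h1 h2 =>
    hxy (htr ((hmemO v).1 h1) (hsym ((hmemO' v).1 h2)))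
  have hcover : ∀ z, z ≠ a → z ≠ b → z ∈ O ∨ z ∈ O' := fun z hza hzb =>
    (hsplit z hza hzb).imp (hmemO z).2 (hmemO' z).2
  have hkl : O.card + O'.card = q := by
    have h := congrArg Finset.card (show Finset.univ = insert a (insert b (O ∪ O')) by
      ext z
      simp only [Finset.mem_univ, Finset.mem_insert, Finset.mem_union, true_iff]
      by_cases hza : z = a
      · exact .inl hza
      by_cases hzb : z = b
      · exact .inr (.inl hzb)
      exact .inr (.inr (hcover z hza hzb)))
    rw [Finset.card_univ, C.card,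
      Finset.card_insert_of_notMem (by
        simp only [Finset.mem_insert, Finset.mem_union, not_or]
        exact ⟨hab, fun h => (hOab a h).1 rfl, fun h => (hO'ab a h).1 rfl⟩),
      Finset.card_insert_of_notMem (by
        simp only [Finset.mem_union, not_or]
        exact ⟨fun h => (hOab b h).2 rfl, fun h => (hO'ab b h).2 rfl⟩),
      Finset.card_union_of_disjoint hdis] at h
    omega
  have hk : 0 < O.card := Finset.card_pos.2 ⟨x, (hmemO x).2 ((fix2_equivalence a b).refl x)⟩
  have hl : 0 < O'.card := Finset.card_pos.2 ⟨y, (hmemO' y).2 ((fix2_equivalence a b).refl y)⟩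
  have hcop : Nat.Coprime O.card O'.card := by
    rw [← Nat.coprime_self_add_right, hkl]
    exact (hq.coprime_iff_not_dvd.2 (Nat.not_dvd_of_pos_of_lt hk (by omega))).symm
  have hkl' : O.card ≠ O'.card := fun e =>
    hq2 ((hq.eq_one_or_self_of_dvd 2 ⟨O.card, by omega⟩).resolve_left (by norm_num)).symm
  set N := nbrs G a b O with hN
  have hNb : N b = O := by
    ext v
    rw [hN, mem_nbrs]
    constructor
    · rintro ⟨g, hg, hga, hgb, hv⟩
      rw [hmemO] at hv ⊢
      exact htr hv ⟨g, hg, hga, hgb, g.apply_symm_apply v⟩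
    · exact fun hv => ⟨1, G.one_mem, rfl, rfl, by simpa using hv⟩
  have hmove : ∀ u, u ≠ a → ∃ g ∈ G, g a = a ∧ g b = u := fun u hua =>
    C.two a b a u hab hua.symm
  have hcardN : ∀ u, u ≠ a → (N u).card = O.card := by
    intro u hua
    obtain ⟨g, hg, hga, rfl⟩ := hmove u hua
    rw [hN, nbrs_map hg hga, Finset.card_image_of_injective _ g.injective, ← hN, hNb]
  have hNa : ∀ u v, v ∈ N u → u ≠ a ∧ v ≠ a ∧ v ≠ u := by
    intro u v hv
    obtain ⟨g, hg, hga, rfl, hv'⟩ := mem_nbrs.1 (hN ▸ hv)
    have h := hOab _ hv'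
    exact ⟨fun e => hab (g.injective (e.trans hga.symm)).symm,
      fun e => h.1 (by rw [e]; exact inv_apply_of hga),
      fun e => h.2 (by rw [e]; exact inv_apply_of rfl)⟩
  have heq : ∀ g ∈ G, g a = a → ∀ u v, (g v ∈ N (g u) ↔ v ∈ N u) := by
    intro g hg hga u v
    rw [hN, nbrs_map hg hga]
    exact g.injective.mem_finset_image
  -- the graph is self-paired
  set I := Finset.univ.filter fun v => b ∈ N v with hI
  have hIk : I.card = O.card := by
    set V := (Finset.univ : Finset α).erase a with hV
    have h1 := Finset.sum_card_bipartiteAbove_eq_sum_card_bipartiteBelow (s := V) (t := V)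
      fun u v => v ∈ N u
    have habove : ∀ u ∈ V, (Finset.bipartiteAbove (fun u v => v ∈ N u) V u).card = O.card := by
      intro u hu
      rw [← hcardN u (Finset.ne_of_mem_erase hu)]
      refine congrArg Finset.card (Finset.ext fun v => ?_)
      simp only [Finset.mem_bipartiteAbove, hV, Finset.mem_erase, Finset.mem_univ, and_true]
      exact ⟨fun h => h.2, fun h => ⟨(hNa u v h).2.1, h⟩⟩
    have hbelow : ∀ v ∈ V, (Finset.bipartiteBelow (fun u v => v ∈ N u) V v).card = I.card := by
      intro v hv
      obtain ⟨g, hg, hga, rfl⟩ := hmove v (Finset.ne_of_mem_erase hv)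
      refine (Finset.card_bij (fun u _ => g u) ?_ (fun _ _ _ _ h => g.injective h) ?_).symm
      · intro u hu
        simp only [hI, Finset.mem_filter, Finset.mem_univ, true_and] at hu
        simp only [Finset.mem_bipartiteBelow, hV, Finset.mem_erase, Finset.mem_univ, and_true]
        exact ⟨fun e => (hNa u b hu).1 (g.injective (e.trans hga.symm)), (heq g hg hga u b).2 hu⟩
      · intro w hw
        simp only [Finset.mem_bipartiteBelow, hV, Finset.mem_erase, Finset.mem_univ, and_true] at hw
        refine ⟨g⁻¹ w, ?_, g.apply_symm_apply w⟩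
        simp only [hI, Finset.mem_filter, Finset.mem_univ, true_and]
        rw [← heq g hg hga, show g (g⁻¹ w) = w from g.apply_symm_apply w]
        exact hw.2
    rw [Finset.sum_congr rfl habove, Finset.sum_congr rfl hbelow, Finset.sum_const,
      Finset.sum_const, smul_eq_mul, smul_eq_mul] at h1
    exact (Nat.eq_of_mul_eq_mul_left (Finset.card_pos.2 ⟨b, by simp [hV, hab.symm]⟩) h1).symm
  have hIinv : ∀ u v, Fix2 G a b u v → (u ∈ I ↔ v ∈ I) := by
    rintro u v ⟨g, hg, hga, hgb, rfl⟩
    simp only [hI, Finset.mem_filter, Finset.mem_univ, true_and]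
    conv_rhs => rw [← hgb]
    rw [heq g hg hga]
  have hIO : I = O := by
    have hIab : ∀ v ∈ I, v ≠ a ∧ v ≠ b := fun v hv => by
      simp only [hI, Finset.mem_filter, Finset.mem_univ, true_and] at hv
      exact ⟨(hNa v b hv).1, fun e => (hNa v b hv).2.2 e.symm⟩
    by_cases hx : x ∈ I
    · refine (Finset.eq_of_subset_of_card_le (fun v hv => ?_) hIk.le).symm
      exact (hIinv x v ((hmemO v).1 hv)).1 hx
    · exfalso
      have hsub : I ⊆ O' := fun v hv => (hcover v (hIab v hv).1 (hIab v hv).2).resolve_left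
        fun h => hx ((hIinv x v ((hmemO v).1 h)).2 hv)
      by_cases hy : y ∈ I
      · exact hkl' (hIk.symm.trans (congrArg Finset.card (hsub.antisymm fun v hv =>
          (hIinv y v ((hmemO' v).1 hv)).1 hy)))
      · have : I = ∅ := Finset.eq_empty_of_forall_notMem fun v hv =>
          hy ((hIinv y v ((hmemO' v).1 (hsub hv))).2 hv)
        rw [this, Finset.card_empty] at hIk
        omega
  have hpair : ∀ u v, v ∈ N u → u ∈ N v := by
    intro u v h
    obtain ⟨g, hg, hga, rfl⟩ := hmove u (hNa u v h).1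
    rw [← show g (g⁻¹ v) = v from g.apply_symm_apply v] at h ⊢
    rw [heq g hg hga] at h ⊢
    rw [hNb, ← hIO] at h
    simpa [hI] using h
  -- the double count between the two orbits
  set c := (O'.filter fun w => w ∈ N x).card with hc
  set m := (O.filter fun v => y ∈ N v).card with hm
  have hcount : O.card * c = O'.card * m := by
    have h1 := Finset.sum_card_bipartiteAbove_eq_sum_card_bipartiteBelow (s := O) (t := O')
      fun u v => v ∈ N u
    have hstabO : ∀ g ∈ G, g a = a → g b = b → ∀ v, (g v ∈ O ↔ v ∈ O) := fun g hg hga hgb v => by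
      rw [hmemO, hmemO]
      exact ⟨fun h => htr h (hsym ⟨g, hg, hga, hgb, rfl⟩), fun h => htr h ⟨g, hg, hga, hgb, rfl⟩⟩
    have hstabO' : ∀ g ∈ G, g a = a → g b = b → ∀ v, (g v ∈ O' ↔ v ∈ O') := fun g hg hga hgb v => by
      rw [hmemO', hmemO']
      exact ⟨fun h => htr h (hsym ⟨g, hg, hga, hgb, rfl⟩), fun h => htr h ⟨g, hg, hga, hgb, rfl⟩⟩
    have habove : ∀ v ∈ O, (Finset.bipartiteAbove (fun u v => v ∈ N u) O' v).card = c := by
      intro v hv
      obtain ⟨g, hg, hga, hgb, rfl⟩ := (hmemO v).1 hv
      refine (Finset.card_bij (fun w _ => g w) ?_ (fun _ _ _ _ h => g.injective h) ?_).symm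
      · intro w hw
        rw [Finset.mem_filter] at hw
        rw [Finset.mem_bipartiteAbove, hstabO' g hg hga hgb, heq g hg hga]
        exact hw
      · intro w hw
        rw [Finset.mem_bipartiteAbove] at hw
        refine ⟨g⁻¹ w, ?_, g.apply_symm_apply w⟩
        rw [Finset.mem_filter, ← hstabO' g hg hga hgb, ← heq g hg hga,
          show g (g⁻¹ w) = w from g.apply_symm_apply w]
        exact hw
    have hbelow : ∀ w ∈ O', (Finset.bipartiteBelow (fun u v => v ∈ N u) O w).card = m := by
      intro w hw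
      obtain ⟨g, hg, hga, hgb, rfl⟩ := (hmemO' w).1 hw
      refine (Finset.card_bij (fun v _ => g v) ?_ (fun _ _ _ _ h => g.injective h) ?_).symm
      · intro v hv
        rw [Finset.mem_filter] at hv
        rw [Finset.mem_bipartiteBelow, hstabO g hg hga hgb, heq g hg hga]
        exact hv
      · intro v hv
        rw [Finset.mem_bipartiteBelow] at hv
        refine ⟨g⁻¹ v, ?_, g.apply_symm_apply v⟩
        rw [Finset.mem_filter, ← hstabO g hg hga hgb, ← heq g hg hga,
          show g (g⁻¹ v) = v from g.apply_symm_apply v]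
        exact hv
    rw [Finset.sum_congr rfl habove, Finset.sum_congr rfl hbelow, Finset.sum_const,
      Finset.sum_const, smul_eq_mul, smul_eq_mul] at h1
    exact h1
  have hdvd : O.card ∣ m := hcop.dvd_of_dvd_mul_left ⟨c, hcount.symm⟩
  have hmle : m ≤ O.card := Finset.card_filter_le _ _
  rcases Nat.eq_zero_or_pos m with hm0 | hmpos
  · -- no edge between the two orbits
    have hno : ∀ v ∈ O, ∀ w ∈ O', w ∉ N v := by
      intro v hv w hw h
      obtain ⟨g, hg, hga, hgb, rfl⟩ := (hmemO' w).1 hw
      have hv' : g⁻¹ v ∈ O.filter fun v => y ∈ N v := by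
        rw [Finset.mem_filter, ← heq g hg hga, show g (g⁻¹ v) = v from g.apply_symm_apply v]
        refine ⟨(hmemO _).2 (htr ((hmemO v).1 hv) (hsym ⟨g, hg, hga, hgb, g.apply_symm_apply v⟩)), h⟩
      rw [Finset.card_eq_zero.1 hm0] at hv'
      simp at hv'
    set B := insert b O with hB
    have hBN : ∀ v ∈ B, insert v (N v) = B := by
      intro v hv
      refine Finset.eq_of_subset_of_card_le (fun w hw => ?_) ?_
      · rcases Finset.mem_insert.1 hw with rfl | hw
        · exact hv
        · obtain ⟨-, hwa, hwv⟩ := hNa v w hw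
          by_cases hwb : w = b
          · exact hwb ▸ Finset.mem_insert_self _ _
          · refine Finset.mem_insert_of_mem ((hcover w hwa hwb).resolve_right fun hw' => ?_)
            rcases Finset.mem_insert.1 hv with rfl | hv'
            · exact Finset.disjoint_left.1 hdis (hNb ▸ hw) hw'
            · exact hno v hv' w hw' hw
      · rw [hB, Finset.card_insert_of_notMem fun h => (hOab b h).2 rfl,
          Finset.card_insert_of_notMem fun h => (hNa v v h).2.2 rfl]
        rw [hcardN v ?_]
        intro e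
        rcases Finset.mem_insert.1 hv with h | h
        · exact hab (e.symm.trans h)
        · exact (hOab v h).1 e
    have D : BlockData G a b B :=
      { a_not := fun h => (Finset.mem_insert.1 h).elim hab fun h => (hOab a h).1 rfl
        b_mem := Finset.mem_insert_self _ _
        big := ⟨x, Finset.mem_insert_of_mem ((hmemO x).2 ((fix2_equivalence a b).refl x)), hxb⟩
        out := ⟨y, fun h => (Finset.mem_insert.1 h).elim hyb fun h =>
          hxy ((hmemO y).1 h), hya⟩
        block := fun g hg hga u hu hgu w hw => by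
          rw [← hBN u hu] at hw
          rw [← hBN (g u) hgu]
          rcases Finset.mem_insert.1 hw with rfl | hw
          · exact Finset.mem_insert_self _ _
          · exact Finset.mem_insert_of_mem ((heq g hg hga u w).2 hw) }
    exact D.contradiction C h3 h7
  · -- every point of the second orbit is joined to the whole first orbit
    have hfull : ∀ w ∈ O', N w = O := by
      intro w hw
      refine (Finset.eq_of_subset_of_card_le (fun v hv => ?_)
        (hcardN w (hO'ab w hw).1).le).symm
      apply hpair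
      obtain ⟨g, hg, hga, hgb, rfl⟩ := (hmemO' w).1 hw
      have hall : O.filter (fun v => y ∈ N v) = O :=
        Finset.eq_of_subset_of_card_le (Finset.filter_subset _ _) (Nat.le_of_dvd hmpos hdvd)
      have hv' : g⁻¹ v ∈ O :=
        (hmemO _).2 (htr ((hmemO v).1 hv) (hsym ⟨g, hg, hga, hgb, g.apply_symm_apply v⟩))
      rw [← hall, Finset.mem_filter, ← heq g hg hga,
        show g (g⁻¹ v) = v from g.apply_symm_apply v] at hv'
      exact hv'.2
    set B := Finset.univ.filter (fun v => v ≠ a ∧ N v = O) with hB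
    have hmemB : ∀ v, v ∈ B ↔ v ≠ a ∧ N v = O := fun v => by simp [hB]
    have D : BlockData G a b B :=
      { a_not := fun h => ((hmemB a).1 h).1 rfl
        b_mem := (hmemB b).2 ⟨hab.symm, hNb⟩
        big := ⟨y, (hmemB y).2 ⟨hya, hfull y ((hmemO' y).2 ((fix2_equivalence a b).refl y))⟩, hyb⟩
        out := ⟨x, fun h => (hNa x x (by
          rw [((hmemB x).1 h).2]; exact (hmemO x).2 ((fix2_equivalence a b).refl x))).2.2 rfl, hxa⟩
        block := fun g hg hga u hu hgu w hw => by
          rw [hmemB] at hu hgu hw ⊢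
          refine ⟨fun e => hw.1 (g.injective (e.trans hga.symm)), ?_⟩
          have h := hgu.2
          rw [hN, nbrs_map hg hga, ← hN, hu.2] at h
          rw [hN, nbrs_map hg hga, ← hN, hw.2]
          exact h }
    exact D.contradiction C h3 h7

theorem trans_three (hα : Fintype.card α = p) [MulAction.IsPretransitive G α]
    (hG : ¬ Group.IsSolvable G) (P : Sylow p G)
    (hN : 2 * Nat.card (Subgroup.normalizer ((P : Subgroup G) : Set G)) = p * (p - 1))
    {q : ℕ} (hq : q.Prime) (hq5 : 5 < q) (hpq : p = q + 2) : Trans G 3 := by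
  have hodd : p % 2 = 1 := Nat.odd_iff.1 ((Fact.out : p.Prime).odd_of_ne_two (by omega))
  by_cases h3 : p % 4 = 3
  · obtain ⟨C⟩ := exists_ctx hα G hG P hN
    have h2 : Trans G 2 := fun x y hx hy => by
      obtain ⟨g, hg, h0, h1⟩ := C.two (x 0) (x 1) (y 0) (y 1)
        (fun e => absurd (hx e) (by decide)) (fun e => absurd (hy e) (by decide))
      exact ⟨g, hg, Fin.forall_fin_two.2 ⟨h0, h1⟩⟩
    refine h2.succ fun x hx e f he hf => ?_
    obtain ⟨g, hg, h0, h1, h2'⟩ := C.fix2_of_sub_two_prime h3 (by omega) hq (by omega) hpq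
      (a := x 0) (b := x 1) (x := e) (y := f) (fun h => absurd (hx h) (by decide))
      (fun h => he ⟨0, h.symm⟩) (fun h => he ⟨1, h.symm⟩) (fun h => hf ⟨0, h.symm⟩)
      (fun h => hf ⟨1, h.symm⟩)
    exact ⟨g, hg, Fin.forall_fin_two.2 ⟨h0, h1⟩, h2'⟩
  · refine trans_iff.2 (Cfsg.Agent.S0676.result hα G hG P ?_)
    obtain ⟨k, hk⟩ : 4 ∣ p - 1 := by omega
    refine ⟨p * k, ?_⟩
    rw [hk] at hN
    apply Nat.eq_of_mul_eq_mul_left two_pos
    rw [hN]; ring

end Cfsg.Agent.PrimeDegreeHalf
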