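import Cfsg.Agent.PrimeDegreeHalf.Five

/-!
From an abstract faithful action to a group of permutations.
-/

set_option autoImplicit false

namespace Cfsg.Agent.PrimeDegreeHalf

variable {G Ω : Type*} [Group G] [Finite G] [MulAction G Ω] [FaithfulSMul G Ω] [Finite Ω]
  {p : ℕ}

theorem range_hyps (hp : p.Prime) (hins : ¬ Group.IsSolvable G)
    (P : Sylow p G)
    (hN : 2 * Nat.card ↥(Subgroup.normalizer ((P : Subgroup G) : Set G)) = p * (p - 1)) :
    haveI := Fact.mk hp
    ¬ Group.IsSolvable (MulAction.toPermHom G Ω).range ∧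
      ∃ P' : Sylow p (MulAction.toPermHom G Ω).range,
        2 * Nat.card (Subgroup.normalizer ((P' : Subgroup (MulAction.toPermHom G Ω).range) :
          Set (MulAction.toPermHom G Ω).range)) = p * (p - 1) := by
  haveI := Fact.mk hp
  set R := (MulAction.toPermHom G Ω).range
  let eq : G ≃* R := MonoidHom.ofInjective toPermHom_injective
  refine ⟨fun h => hins (by
    haveI := h
    exact Group.isSolvable_of_surjective (f := eq.symm.toMonoidHom) eq.symm.surjective),
    P.mapSurjective (f := eq.toMonoidHom) eq.surjective, ?_⟩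
  have h : (Subgroup.normalizer ((P : Subgroup G) : Set G)).map eq.toMonoidHom =
      Subgroup.normalizer ((P.mapSurjective (f := eq.toMonoidHom) eq.surjective : Subgroup R) :
        Set R) := Subgroup.map_equiv_normalizer_eq _ eq
  have hc := Subgroup.card_map_of_injective
    (K := Subgroup.normalizer ((P : Subgroup G) : Set G)) (f := eq.toMonoidHom) eq.injective
  rw [← h, hc]
  exact hN

omit [Finite G] [FaithfulSMul G Ω] [Finite Ω] in
theorem trans_of_range {n : ℕ} (h : Trans (MulAction.toPermHom G Ω).range n) :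
    MulAction.IsMultiplyPretransitive G Ω n := by
  rw [MulAction.isMultiplyPretransitive_iff]
  intro x y
  obtain ⟨_, ⟨g, rfl⟩, hg⟩ := h x y x.injective y.injective
  exact ⟨g, Function.Embedding.ext hg⟩

theorem five_transitive (p : ℕ) (hp : p.Prime) (hΩ : Nat.card Ω = p)
    (htrans : MulAction.IsPretransitive G Ω) (hins : ¬ Group.IsSolvable G) (P : Sylow p G)
    (hN : 2 * Nat.card ↥(Subgroup.normalizer ((P : Subgroup G) : Set G)) = p * (p - 1))
    (q : ℕ) (hq : q.Prime) (hq5 : 5 < q) (hpq : p = q + 2) :
    MulAction.IsMultiplyPretransitive G Ω 5 := by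
  classical
  haveI := Fintype.ofFinite Ω
  haveI := Fact.mk hp
  haveI := htrans
  haveI := range_pretransitive (G := G) (Ω := Ω)
  obtain ⟨hR, P', hN'⟩ := range_hyps (Ω := Ω) hp hins P hN
  exact trans_of_range (trans_five (by rw [← hΩ, Nat.card_eq_fintype_card]) hR P' hN' hq hq5 hpq)

end Cfsg.Agent.PrimeDegreeHalf
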